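import Cfsg.Agent.Lib.Mult.Fam
import Cfsg.Agent.Lib.GLC.Ord2

/-! # The Schur multiplier of `SL₂(9)` (generated) -/

set_option autoImplicit false
set_option maxRecDepth 100000
set_option maxHeartbeats 0

namespace Cfsg.Lib.Mult.SL29

open Cfsg.Lib.Calc Cfsg.Lib.Asch Cfsg.Lie Subgroup Matrix

universe u

/-- The parameters of the arithmetic. -/
def fp : FP := ⟨3, 11, 4, 43, 7⟩

theorem bas : Bas (K := F9) fp 2 2 (Fin.ofNat 2) (fun t => TF.c (3 ^ t)) := by
  constructor <;> decide +kernel

/-- Generators. -/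
def gl : List (ℕ × ℕ) := [(4113, (nat_lit 0x200000800000004000010000000080000000000001)),
    (4129, (nat_lit 0x200001000000004000020000000080000000000001)),
    (4145, (nat_lit 0x200000002000004008000000000080000000000001)),
    (4193, (nat_lit 0x200000001000004010000000000080000000000001)),
    (4353, (nat_lit 0x200000000000004000000020000080000000400001)),
    (4609, (nat_lit 0x200000000000004000000040000080000000800001)),
    (4865, (nat_lit 0x200000000000004000000000080080000200000001)),
    (5633, (nat_lit 0x200000000000004000000000040080000400000001))]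

theorem base : LX (SpecialLinearGroup (Fin 2) F9) 8 fp (nth (fp.one :: gl.map Prod.snd)) :=
  bas.sl (l := gl) (tmat Fin.val 2) 3 (by decide +kernel) (by decide +kernel)

theorem card : Nat.card (SpecialLinearGroup (Fin 2) F9) = 720 := by
  rw [GLC.card_SL_eq, Nat.card_eq_fintype_card, TF.card]; rfl

noncomputable def c2 : Cert where
  p := 2
  n := (nat_lit 4)
  q := (nat_lit 2)
  D := (nat_lit 2)
  W := (nat_lit 16)
  tab := (nat_lit 0x4050405040504050405830a830a03050405620a0205040501050000)
  L := (nat_lit 0)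
  ytab := (nat_lit 0)
  gtab := (nat_lit 0)
  w := (nat_lit 13)
  F := (nat_lit 20)
  c := (nat_lit 2)
  Btab := (nat_lit 0x8c4208821)
  wM := (nat_lit 2)
  Mtab := (nat_lit 0x8008d0c100)
  rels := [.a (nat_lit 2) (nat_lit 1) (nat_lit 1) (nat_lit 68), .a (nat_lit 2) (nat_lit 2) (nat_lit 1) (nat_lit 36),
    .a (nat_lit 3) (nat_lit 3) (nat_lit 1) (nat_lit 36), .a (nat_lit 3) (nat_lit 3) (nat_lit 3) (nat_lit 100),
    .a (nat_lit 2) (nat_lit 2) (nat_lit 2) (nat_lit 68), .a (nat_lit 1) (nat_lit 1) (nat_lit 1) (nat_lit 36)]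
  a1 := (nat_lit 2)
  o1 := (nat_lit 1)
  r1 := (nat_lit 0)
  a2 := (nat_lit 2)
  o2 := (nat_lit 1)
  r2 := (nat_lit 0)
  rows := [(nat_lit 0), (nat_lit 0), (nat_lit 0), (nat_lit 0),
    (nat_lit 0), (nat_lit 0), (nat_lit 0), (nat_lit 0),
    (nat_lit 61776), (nat_lit 18416), (nat_lit 0), (nat_lit 16),
    (nat_lit 64), (nat_lit 256), (nat_lit 3856)]

noncomputable def c2_low : List (ℕ × List ℕ) :=
  [((nat_lit 0), [(nat_lit 0), (nat_lit 4), (nat_lit 4193), (nat_lit 97), (nat_lit 65), (nat_lit 129), (nat_lit 134209), (nat_lit 130), (nat_lit 4194), (nat_lit 131), (nat_lit 2), (nat_lit 3), (nat_lit 98), (nat_lit 4161), (nat_lit 3137), (nat_lit 1)])]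

noncomputable def c2_lx_ws : List ℕ := [(nat_lit 0), (nat_lit 103557), (nat_lit 139426), (nat_lit 104582),
    (nat_lit 37925)]

noncomputable def c2_lx_cs : List ℕ := [fp.one,
    (nat_lit 0x400800800002008000010040040080100400801001),
    (nat_lit 0x400000004000000000020040000200400400800),
    (nat_lit 0x400401000004008000020020040080200400400801),
    (nat_lit 0x400000000000008000000000000100000000000002)]

theorem c2_lx : LX (SpecialLinearGroup (Fin 2) F9) 4 fp (nth c2_lx_cs) := base.words (ws := c2_lx_ws) (by decide +kernel)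

theorem c2_run : c2.runOK = true := by decide +kernel

theorem c2_nd : Nd (SpecialLinearGroup (Fin 2) F9) (2 ^ 1) :=
  c2_lx.nd (C := c2) (N := 1) (vs := (nat_lit 1)) (l := c2_low) Nat.prime_two card
    (by decide +kernel) c2_run (by decide +kernel)

noncomputable def c3 : Cert where
  p := 3
  n := (nat_lit 2)
  q := (nat_lit 9)
  D := (nat_lit 3)
  W := (nat_lit 10)
  tab := (nat_lit 0x2058140041400)
  L := (nat_lit 0)
  ytab := (nat_lit 0)
  gtab := (nat_lit 0)
  w := (nat_lit 16)
  F := (nat_lit 7)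
  c := (nat_lit 5)
  Btab := (nat_lit 67617)
  wM := (nat_lit 5)
  Mtab := (nat_lit 0x2000400)
  rels := [.a (nat_lit 66) (nat_lit 2) (nat_lit 1) (nat_lit 1)]
  a1 := (nat_lit 4)
  o1 := (nat_lit 3)
  r1 := (nat_lit 10)
  a2 := (nat_lit 2)
  o2 := (nat_lit 1)
  r2 := (nat_lit 0)
  rows := [(nat_lit 0), (nat_lit 0), (nat_lit 0), (nat_lit 0),
    (nat_lit 1), (nat_lit 0)]

noncomputable def c3_low : List (ℕ × List ℕ) :=
  [((nat_lit 0), [(nat_lit 33), (nat_lit 0), (nat_lit 1), (nat_lit 2081), (nat_lit 2), (nat_lit 65), (nat_lit 67617), (nat_lit 66), (nat_lit 2113)])]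

noncomputable def c3_lx_ws : List ℕ := [(nat_lit 0), (nat_lit 1), (nat_lit 3)]

noncomputable def c3_lx_cs : List ℕ := [fp.one,
    (nat_lit 0x200000800000004000010000000080000000000001),
    (nat_lit 0x200000002000004008000000000080000000000001)]

theorem c3_lx : LX (SpecialLinearGroup (Fin 2) F9) 2 fp (nth c3_lx_cs) := base.words (ws := c3_lx_ws) (by decide +kernel)

theorem c3_run : c3.runOK = true := by decide +kernel

theorem c3_nd : Nd (SpecialLinearGroup (Fin 2) F9) (3 ^ 2) :=
  c3_lx.nd (C := c3) (N := 1) (vs := (nat_lit 0x400001)) (l := c3_low) Nat.prime_three card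
    (by decide +kernel) c3_run (by decide +kernel)

theorem ndL : NdL (SpecialLinearGroup (Fin 2) F9) [(2, 0), (3, 1), (5, 0)] :=
  ((NdL.nil.cyc card 5).cons Nat.prime_three c3_nd).cons Nat.prime_two c2_nd

/-- Inverse letters. -/
def iv : ℕ := (nat_lit 0x14c320440)
/-- The relators. -/
def rels : List W := [.mul (.mul (.mul (.l 1) (.l 4)) (.l 2)) (.l 3), .pow (.l 1) 3, .pow (.l 3) 3, .mul (.mul (.mul (.mul (.mul (.mul (.mul (.mul (.mul (.l 2) (.l 5)) (.l 1)) (.l 5)) (.l 2)) (.l 6)) (.l 1)) (.l 6)) (.l 4)) (.l 5), .mul (.mul (.mul (.mul (.mul (.mul (.mul (.l 4) (.l 6)) (.l 2)) (.l 5)) (.l 3)) (.l 5)) (.l 1)) (.l 6), .pow (.mul (.l 1) (.l 5)) 5, .mul (.mul (.mul (.mul (.mul (.l 6) (.l 3)) (.l 5)) (.l 4)) (.l 5)) (.l 3), .pow (.l 5) 3]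
/-- The generators. -/
def gens : List W := [.l 1, .l 3, .l 5]

def e1_F : Tr := .leaf (nat_lit 0x3024240dc2c28138544617230d428261284c8833110447042238c86c41228c46840218c02420108400000)
def e1_T : Tr := .leaf (nat_lit 36344967696)
def e1_P : Tr := .leaf (nat_lit 0x7fc007fc007fc007fc007fc007fc007fc007fc007fc007fc007fc007fc007fc007fc007fc007fc007fc007fc007fc007fc007fc007fc405220080038880001102434010005131e00000382070000014340000860212008001818b000000c240000810500001)
def e1_N_0 : Tr := .node (.node (.node (.node (.leaf (nat_lit 100481))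
  (.leaf (nat_lit 4099)))
  (.node (.leaf (nat_lit 65))
  (.leaf (nat_lit 166))))
  (.node (.node (.leaf (nat_lit 207403256004))
  (.leaf (nat_lit 197)))
  (.leaf (nat_lit 34))))
  (.node (.node (.node (.leaf (nat_lit 3171))
  (.leaf (nat_lit 100)))
  (.node (.leaf (nat_lit 2049))
  (.leaf (nat_lit 0))))
  (.node (.node (.leaf (nat_lit 106042470))
  (.leaf (nat_lit 6149)))
  (.leaf (nat_lit 131))))
def e1_N_1 : Tr := .node (.node (.node (.node (.leaf (nat_lit 1057))
  (.leaf (nat_lit 100)))
  (.node (.leaf (nat_lit 65))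
  (.leaf (nat_lit 5126))))
  (.node (.node (.leaf (nat_lit 177194413491361))
  (.leaf (nat_lit 197)))
  (.leaf (nat_lit 1026))))
  (.node (.node (.node (.leaf (nat_lit 180527342716066))
  (.leaf (nat_lit 3076)))
  (.node (.leaf (nat_lit 34))
  (.leaf (nat_lit 0))))
  (.node (.node (.leaf (nat_lit 5285))
  (.leaf (nat_lit 166)))
  (.leaf (nat_lit 131))))
def e1_N : Tr := .node e1_N_0
  e1_N_1
noncomputable def e1 : TC :=
  ⟨[.l 0, .l 1, .l 2, .l 3, .l 4, .l 5, .l 6],
    (nat_lit 4), (nat_lit 7), (nat_lit 5573313600), (nat_lit 1), (nat_lit 9), (nat_lit 0), (nat_lit 32), (nat_lit 1), (nat_lit 28),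
    get (nat_lit 10) (nat_lit 0x1003010030080400c02010030080400c02010030080400c0200c06028080280300c04), Tr.get e1_N, get (nat_lit 20) (nat_lit 0x3ff003ff003ff003ff003ff003ff003ff003ff003ff003ff003ff003ff003ff003ff003ff003ff003ff003ff003ff003ff0000700006000050000400003000020000100000),
    Tr.get3 e1_F (nat_lit 18) (nat_lit 5), Tr.get3 e1_T (nat_lit 4) (nat_lit 7), Tr.get e1_P⟩

theorem e1_head : e1.headOK rels iv = true := by decide +kernel

theorem e1_b0 : allFrom (nat_lit 0) (nat_lit 1) e1.blockOK = true := by decide +kernel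

def e1_Q3 : Tr := .leaf (nat_lit 0x1188d68950e286)
theorem e1_f3_0 : allFrom (nat_lit 0) (nat_lit 9) (e1.finOK (nat_lit 9) (Tr.get3 e1_Q3 (nat_lit 6) (nat_lit 7)) (nat_lit 3)) = true := by
  decide +kernel

def e1_Q1 : Tr := .leaf (nat_lit 0x25721799585482)
theorem e1_f1_0 : allFrom (nat_lit 0) (nat_lit 9) (e1.finOK (nat_lit 9) (Tr.get3 e1_Q1 (nat_lit 6) (nat_lit 7)) (nat_lit 1)) = true := by
  decide +kernel

theorem e1_blocks : ∀ t < e1.k, e1.blockOK t = true :=
  (of_allFrom_append of_lt_zero e1_b0)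

/-- index 9 max 9 total 9 facts 19 | needed cosets 9 facts 19 steps 26 trivial 0 -/
theorem e1_index {G : Type*} [Group G] {γ : ℕ → G} (hL : Lab γ iv) (hr : ∀ t ∈ rels, t.ev γ = 1) {K : Subgroup G}
    (hK : ∀ t ∈ ([] : List W), t.ev γ ∈ K) :
    K.relIndex (genW γ [.l 1, .l 3]) ≠ 0 ∧ K.relIndex (genW γ [.l 1, .l 3]) ≤ 9 :=
  TC.relIndex_le (D := e1) (gens := [1, 3]) hL (List.forall_mem_cons.2 ⟨hL.zero_mem K, hK⟩) hr e1_head e1_blocks (by decide) (by decide)
   (List.forall_mem_cons.2 ⟨⟨_, (of_allFrom_append of_lt_zero e1_f1_0)⟩,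
    List.forall_mem_cons.2 ⟨⟨_, (of_allFrom_append of_lt_zero e1_f3_0)⟩,
    fun _ h => absurd h List.not_mem_nil⟩⟩)

def e0_F : Tr := .leaf (nat_lit 0x2c934f0cf14f24f1cf14e0ce1ce24e3462ce14d0cd1cd24d3482cd14c0cc1cc24c3452cc14b0c034b2cb13b0cb2461cb14a0ca2b334a24a1ca0c91302491c82c73490ac1491480ab33f2c813d0c81c723f1b62471370c71460b13412c623a1c61450a633c2c51380c52331c50c41232441a72be34432f2c40c21441430c32ba3432431c32421c12c23420a31421410a21270c11400bb2a634033d2c02311c013f0be2361bf1be2352af33e1a923e3262bd12b0bd2301bd1bc2391ae23c12f0bc2ac33b3342bb2281bb13a09f2a033a1390b22b933922e1b91260b83382b51a52382341b82a333732d2b71290b721e1b72291b53352991360b53362b632c2b41340b32251b42ae3331b322413209a3322b119c23222d1b20a813121f1b10b012c21d1b03222b011c0af21a1af12e0ad1ad21c2ad32322c1ab2a132b3182ab32a2aa11d0aa3292a821b1a809d1113242a41220a72271a13272a52161a61250a428f3252231a23142a21210a029832109b11f31f29e21719e31d29c31b29a21219a09910a21919809511911809410909831729619620e21519408a11511408911309319321330a2933122910901062101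8f08c11010f08b10508f30e28d20c18b08610c10b08520a18930528a3092891080872061853062861040833022812001801000802cf34734e2c134d2bf34c2bc24b1ba2ca32e1c922a2481aa1470a90c61282451a41c42212c33201c22202411a024019f0bf11e13e09e23d19d13c09c23b19b0ba11b0b911a2b83192371970b61171350970b41161330962b231533129533029422f1920ae11212d0921ac21122b19112a0912a93103282902a730f22618e0a510e12408e1a320d22218d0a110d12008d29f30c31e28c29d30b31c28b29b30831a28819920821818829730731628719520721418731328529230431128419020420f18428e30330d28318c20320b18318a202209182088102107082186201205181084101103081282300301280000000)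
def e0_T : Tr := .leaf (nat_lit 0x9f3a6cc972a4c88f1a2c4870a0c07ef9ebc76e9cb86ed9ab466c98b05eb96ac56a94a84e992a446890a03e78e9c3668c982e58a9426488901e3868c16284880e182840608080)
def e0_P : Tr := .node (.node (.node (.leaf (nat_lit 0xd020045180c1225008040a04466008003019800010c9582b00400142b46200000300804c00000582f000070e01804a20283c5a000082815800010a81c15004000903c5200000260500942030589c030104c0a528559000c0c2658000038884a0000e0c04884010003c2100002102983200800165387c000003c0805800000683a0000e160c800010600c0d004000501c2e00000120a80001051480d54aa802018240451014260080c0e08800008281a000040c01288060d008060302400004040500007))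
  (.leaf (nat_lit 0x7ffba9e47422b961da0010227b589bea26b5a9f004044f6ae75aa4f801032710487c7a19069d00c044e20ab1a2eb00303273480000e9a3f0f0301b21c4367d0004034d6b76db8e80030326b600000e98b2a578294b22640301131659966b9400c0c98cf00003a02b697000004b633158d4b80203258e877000004b68800009285c63415cc79cf66f7c01807bd4a4628c6e6b19c008112952aad4d2a0040d218524c0100120930000249434a8221094d1e00408922a16401000ac554880000242190b1d2e47a7f00a044842cf60000176b7a3c008011d409e8010023a8800003274680000a32136eca6470f8800604)))
  (.leaf (nat_lit 0x788e000009d9c8e36316400018ec36199c6960080c7683000013b4ea0000274721ceaa721a0c5dcf000a03971cc00004e434560bcd73e190d4e6014067271974018029a4a26800004f8e20000e706e99656385fbd800010e0de8744e700040c6e6b351744700006370b8566594802031b8d74100000373a00000a7c321bc1a120140cdd32cb868ac179b6753c00205351b400004d8d66a0700ca5078bcda0040736999718c5787b68c32200603331a400004d0d425803004c206485d11e2b190020424354ce004003408290162766325a06500403311940001cc8d16432c4cb51c80002191a4f27ac5400818c4d1643344cab54b14a20100662150bdd0eb00a06)))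
  (.node (.leaf (nat_lit 0xb1059000200181b6ee7f9397c3b00804303c80001cbc5b8b00000179c4000045a2e800008e02c1b23c54018188cbb25bdc3c252d80102158b200004561107c9efe000062b31dc434188020315044080128c0609119540180ca905000012814c0001ca02012b89ca0140c220fbd9f1037cbdd7c3b00003242e886ef6d3ca00fc7c00102bf884450000077b655eb358af09e01008f72780003931aa00004482580000929744377b655cb358af00280c884700002222edaa2c14802031008600002420d01804a10284d5ed800a03753a45c0e022840a111b800018f07e0000e3c0c075aad700a061c0ec0001c683700007))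
  (.leaf (nat_lit 0x4641cea00c004c24a2c00001150398ccec80080c8a7cd30000011531000022310d1200800fe4480001222216abd201d47d00204443bc60358d00403221e08500400c69d1c8e31229836414380201e2d0c400d0647f5b00204432170e8443801032090a0000484ac569d542a4e100081108402380200110828300000413c5fe0000076762040000100ea74b59f40000c801f2e0767b004064049000008f87f000013f3a4da00c006a741f400800f83c5c0ee08c72f807021f28545002003d0e82c1d26802031ea0857000003d4800000aad2b3c801001e22f1900200)))
def e0_N_0 : Tr := .node (.node (.node (.node (.leaf (nat_lit 100481))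
  (.leaf (nat_lit 4099)))
  (.node (.leaf (nat_lit 65))
  (.leaf (nat_lit 166))))
  (.node (.node (.leaf (nat_lit 207403256004))
  (.leaf (nat_lit 197)))
  (.leaf (nat_lit 34))))
  (.node (.node (.node (.leaf (nat_lit 3171))
  (.leaf (nat_lit 100)))
  (.node (.leaf (nat_lit 2049))
  (.leaf (nat_lit 0))))
  (.node (.node (.leaf (nat_lit 106042470))
  (.leaf (nat_lit 6149)))
  (.leaf (nat_lit 131))))
def e0_N_1 : Tr := .node (.node (.node (.node (.leaf (nat_lit 1057))
  (.leaf (nat_lit 100)))
  (.node (.leaf (nat_lit 65))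
  (.leaf (nat_lit 5126))))
  (.node (.node (.leaf (nat_lit 177194413491361))
  (.leaf (nat_lit 197)))
  (.leaf (nat_lit 1026))))
  (.node (.node (.node (.leaf (nat_lit 180527342716066))
  (.leaf (nat_lit 3076)))
  (.node (.leaf (nat_lit 34))
  (.leaf (nat_lit 0))))
  (.node (.node (.leaf (nat_lit 5285))
  (.leaf (nat_lit 166)))
  (.leaf (nat_lit 131))))
def e0_N : Tr := .node e0_N_0
  e0_N_1
noncomputable def e0 : TC :=
  ⟨[.l 0, .l 1, .l 2, .l 3, .l 4, .l 5, .l 6],
    (nat_lit 7), (nat_lit 9), (nat_lit 5573313600), (nat_lit 11), (nat_lit 80), (nat_lit 2), (nat_lit 32), (nat_lit 5), (nat_lit 28),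
    get (nat_lit 10) (nat_lit 0x1003010030080400c02010030080400c02010030080400c0200c06028080280300c04), Tr.get e0_N, get (nat_lit 20) (nat_lit 0x3ff003ff003ff003ff003ff003ff003ff003ff003ff003ff003ff003ff003ff003ff003ff003ff003ff003ff003ff003ff0000700006000050000400003000020000100000),
    Tr.get3 e0_F (nat_lit 24) (nat_lit 5), Tr.get3 e0_T (nat_lit 7) (nat_lit 7), Tr.get e0_P⟩

theorem e0_head : e0.headOK rels iv = true := by decide +kernel

theorem e0_b0 : allFrom (nat_lit 0) (nat_lit 5) e0.blockOK = true := by decide +kernel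

def e0_Q5 : Tr := .leaf (nat_lit 0x4ff5ba1cae3257c3b0dbe933d9243e1d397a4d656d898af636aa71a34ea9d38df996591eb8cce2b6187430a70827df5f902a4bca23591fba876e61bb927cef17b58c460640958c507b875743c1c2c15c34162a04c220d0154802)
theorem e0_f5_0 : allFrom (nat_lit 0) (nat_lit 80) (e0.finOK (nat_lit 80) (Tr.get3 e0_Q5 (nat_lit 9) (nat_lit 6)) (nat_lit 5)) = true := by
  decide +kernel

def e0_Q3 : Tr := .leaf (nat_lit 0xee767a7cde16f127b8d6e8b3489c52171178ba5ced167ae25aa54aa16ae813498ca249208d5962e5989242df06cb3ea9a8a23bd1fc82403a0f52b3b38866de3735456d265978ac216113088195c055643014035541e0b04814a2)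
theorem e0_f3_0 : allFrom (nat_lit 0) (nat_lit 80) (e0.finOK (nat_lit 80) (Tr.get3 e0_Q3 (nat_lit 9) (nat_lit 6)) (nat_lit 3)) = true := by
  decide +kernel

def e0_Q1 : Tr := .leaf (nat_lit 0xeff6ba9cee270377aed42373999c764701c83fddad562bf1d4e750a21b678699b55b4d238e17631b5d94291d278068096f8c2e0886f0ad1f20a7876cb9c2d835199bada66168a8c55e12080c15f3459c11562dd6809530380ca0)
theorem e0_f1_0 : allFrom (nat_lit 0) (nat_lit 80) (e0.finOK (nat_lit 80) (Tr.get3 e0_Q1 (nat_lit 9) (nat_lit 6)) (nat_lit 1)) = true := by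
  decide +kernel

theorem e0_blocks : ∀ t < e0.k, e0.blockOK t = true :=
  (of_allFrom_append of_lt_zero e0_b0)

/-- index 80 max 80 total 80 facts 241 | needed cosets 80 facts 241 steps 668 trivial 0 -/
theorem e0_index {G : Type*} [Group G] {γ : ℕ → G} (hL : Lab γ iv) (hr : ∀ t ∈ rels, t.ev γ = 1) {K : Subgroup G}
    (hK : ∀ t ∈ ([.l 1, .l 3] : List W), t.ev γ ∈ K) :
    K.relIndex (genW γ [.l 1, .l 3, .l 5]) ≠ 0 ∧ K.relIndex (genW γ [.l 1, .l 3, .l 5]) ≤ 80 :=
  TC.relIndex_le (D := e0) (gens := [1, 3, 5]) hL (List.forall_mem_cons.2 ⟨hL.zero_mem K, hK⟩) hr e0_head e0_blocks (by decide) (by decide)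
   (List.forall_mem_cons.2 ⟨⟨_, (of_allFrom_append of_lt_zero e0_f1_0)⟩,
    List.forall_mem_cons.2 ⟨⟨_, (of_allFrom_append of_lt_zero e0_f3_0)⟩,
    List.forall_mem_cons.2 ⟨⟨_, (of_allFrom_append of_lt_zero e0_f5_0)⟩,
    fun _ h => absurd h List.not_mem_nil⟩⟩⟩)

theorem tcb : TCB.{u} iv rels gens 720 := fun _ _ _ hL hr =>
  card_le_of_relIndex (genW_mono _ (by simp)) (e0_index hL hr fun _ => mem_genW _)
    (card_le_of_relIndex bot_le (e1_index hL hr (by simp)) card_bot_le)

noncomputable def lx_ws : List ℕ := [(nat_lit 0), (nat_lit 35), (nat_lit 130), (nat_lit 2),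
    (nat_lit 1), (nat_lit 4291), (nat_lit 4259)]

noncomputable def lx_cs : List ℕ := [fp.one,
    (nat_lit 0x200000802000004008010000000080000000000001),
    (nat_lit 0x200001001000004010020000000080000000000001),
    (nat_lit 0x200001000000004000020000000080000000000001),
    (nat_lit 0x200000800000004000010000000080000000000001),
    (nat_lit 0x200801000002004000020040000080100000801001),
    (nat_lit 0x200400800004004000010020000080200000400801)]

theorem lx : LX (SpecialLinearGroup (Fin 2) F9) 6 fp (nth lx_cs) := base.words (ws := lx_ws) (by decide +kernel)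

/-- Words for the lower bound. -/
def low : List (ℕ × List ℕ) := [((nat_lit 0), [(nat_lit 0), (nat_lit 5221), (nat_lit 0xa121445), (nat_lit 0xa119425), (nat_lit 0xa128465), (nat_lit 0xa221826), (nat_lit 0x509426), (nat_lit 0x511846),
    (nat_lit 194), (nat_lit 6212), (nat_lit 6211), (nat_lit 195), (nat_lit 6), (nat_lit 196), (nat_lit 6180), (nat_lit 6179),
    (nat_lit 193), (nat_lit 5187), (nat_lit 5188), (nat_lit 162), (nat_lit 161), (nat_lit 5155), (nat_lit 5156), (nat_lit 164),
    (nat_lit 5), (nat_lit 163), (nat_lit 0x5090a1), (nat_lit 197827), (nat_lit 197826), (nat_lit 166022), (nat_lit 6182), (nat_lit 0x5090a2),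
    (nat_lit 197825), (nat_lit 164997), (nat_lit 0x5110c1), (nat_lit 164965), (nat_lit 166082), (nat_lit 6213), (nat_lit 166083), (nat_lit 166081),
    (nat_lit 198818), (nat_lit 0x508ca1), (nat_lit 5190), (nat_lit 197766), (nat_lit 165027), (nat_lit 0x509423), (nat_lit 165990), (nat_lit 165025),
    (nat_lit 165026), (nat_lit 5157), (nat_lit 0x509444), (nat_lit 165028), (nat_lit 0x509424), (nat_lit 166052), (nat_lit 166049), (nat_lit 0x508cc3),
    (nat_lit 5189), (nat_lit 0x511423), (nat_lit 197733), (nat_lit 166051), (nat_lit 0x511424), (nat_lit 164966), (nat_lit 164998), (nat_lit 6214),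
    (nat_lit 198850), (nat_lit 198851), (nat_lit 0x611843), (nat_lit 0x5090c3), (nat_lit 0x5110a2), (nat_lit 197765), (nat_lit 166021), (nat_lit 6181),
    (nat_lit 165058), (nat_lit 0x509823), (nat_lit 197793), (nat_lit 5158), (nat_lit 198790), (nat_lit 197794), (nat_lit 165057), (nat_lit 165059)]),
    ((nat_lit 1), [(nat_lit 3), (nat_lit 0), (nat_lit 4), (nat_lit 36), (nat_lit 35), (nat_lit 1), (nat_lit 2), (nat_lit 68),
    (nat_lit 67)])]

theorem pr : ∃ γ : ℕ → (SpecialLinearGroup (Fin 2) F9), Pr γ iv rels :=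
  lx.pr (N := 2) (vs := (nat_lit 0x40000100000000001)) (l := low) card tcb (by decide +kernel)

/-- The engine. -/
noncomputable def dE : ME := meP ⟨7, 17, 6, 293, 11⟩
/-- A letter. -/
noncomputable def dc1 : ℕ := (nat_lit 0x300000000a0004000200010000a0001000080000000a0001000200000000000000000000000000000000000000000000001000000000000000010000000000000000000000000000020000)
/-- A letter. -/
noncomputable def dc2 : ℕ := (nat_lit 0x4000000000000000080001000280010000a0000000180000000c00020001000080000000000000000000020000000000000000000000000000040000000000000000400000000)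
/-- A letter. -/
noncomputable def dc3 : ℕ := (nat_lit 0x30001000080000000300010000000000000000000000000100000000400000000000000000000a000000018000400020001000080000000000000000000000000000000008000000000000)
/-- A letter. -/
noncomputable def dc4 : ℕ := (nat_lit 0x800000000000000008000000000000000000000000000000000000040002000200018000400060000000300010000800000003000100000000100000000000000000)
/-- A letter. -/
noncomputable def dc5 : ℕ := (nat_lit 0x280004000400020001800000000000000010000000000000000000000000000000000000080002000100028000800080002000000000000000020000000000000000200000000000000000)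
/-- A letter. -/
noncomputable def dc6 : ℕ := (nat_lit 0x300000000200060001000040000000000000000000000004000000010000000000000000000000000000000000000080000000100008000600040000800100000000000020000000000000)
/-- The letters. -/
noncomputable def dcs : List ℕ := [dc1, dc2, dc3, dc4, dc5, dc6]
/-- The values of the relators. -/
noncomputable def dzs : List ℕ := [(Nat.mul (nat_lit 1) dE.s0),
    (Nat.mul (nat_lit 2) dE.s0),
    (Nat.mul (nat_lit 4) dE.s0)]

theorem d1 : dE.letOK iv dcs dzs = true := by decide +kernel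
theorem d2 : dE.relsOK iv dcs dzs rels = true := by decide +kernel

theorem dlb {γ : ℕ → (SpecialLinearGroup (Fin 2) F9)} (P : Pr γ iv rels) : Lb (SpecialLinearGroup (Fin 2) F9) (Multiplicative (ZMod 3)) :=
  P.cyc (meP_ok (by decide +kernel)) d1 d2 (t := .mul (.mul (.mul (.l 1) (.l 4)) (.l 2)) (.l 3))
    (x := (Nat.mul (nat_lit 2) dE.s0)) (by decide +kernel)

end Cfsg.Lib.Mult.SL29
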