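import Cfsg.Agent.Lib.Mult.Eng
import Cfsg.Agent.Lib.Mathieu.Sub
import Cfsg.Prelude.Def_Spor_Mathieu

/-! # Upper bounds for the Schur multipliers of the Mathieu groups (generated) -/

set_option autoImplicit false
set_option maxRecDepth 100000

namespace Cfsg.Lib.Mult.Mathieu

open Cfsg.Lib.Calc Cfsg.Lib.Mathieu Cfsg.Lib.Golay

theorem reps {H : Subgroup M24} {t : ℕ → Bool} (h : Mem H t) {l : List ℕ} (hl : Calc.allL l (tOK t) = true) :
    ∀ c ∈ l, ∃ g : H, Rep 24 5 G.pt g c := fun c hc => let ⟨g, h1, h2⟩ := h.list hl c hc; ⟨⟨g, h1⟩, h2⟩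

noncomputable def m11_2 : Cert where
  p := 2
  n := (nat_lit 4)
  q := (nat_lit 2)
  D := (nat_lit 2)
  W := (nat_lit 16)
  tab := (nat_lit 0x40504050405040504050305830a03050305620a0205000001050000)
  L := (nat_lit 0)
  ytab := (nat_lit 0)
  gtab := (nat_lit 0)
  w := (nat_lit 13)
  F := (nat_lit 13)
  c := (nat_lit 2)
  Btab := (nat_lit 0x1082108c22)
  wM := (nat_lit 2)
  Mtab := (nat_lit 0x802431000)
  rels := [.a (nat_lit 2) (nat_lit 2) (nat_lit 1) (nat_lit 1124), .a (nat_lit 2) (nat_lit 1) (nat_lit 1) (nat_lit 2),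
    .a (nat_lit 3) (nat_lit 3) (nat_lit 2) (nat_lit 68), .a (nat_lit 3) (nat_lit 1) (nat_lit 1) (nat_lit 3),
    .a (nat_lit 3) (nat_lit 3) (nat_lit 3) (nat_lit 100), .a (nat_lit 2) (nat_lit 2) (nat_lit 2) (nat_lit 67)]
  a1 := (nat_lit 4)
  o1 := (nat_lit 1)
  r1 := (nat_lit 0)
  a2 := (nat_lit 4)
  o2 := (nat_lit 1)
  r2 := (nat_lit 0)
  rows := [(nat_lit 0), (nat_lit 0), (nat_lit 0), (nat_lit 0),
    (nat_lit 0), (nat_lit 0), (nat_lit 0), (nat_lit 0),
    (nat_lit 16), (nat_lit 49392), (nat_lit 0), (nat_lit 61936),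
    (nat_lit 1056), (nat_lit 64), (nat_lit 20560)]

noncomputable def m11_2_low : List (ℕ × List ℕ) :=
  [((nat_lit 0), [(nat_lit 0), (nat_lit 1)]),
    ((nat_lit 1), [(nat_lit 0), (nat_lit 65), (nat_lit 3137), (nat_lit 3)]),
    ((nat_lit 2), [(nat_lit 0), (nat_lit 4)])]

noncomputable def m11_2_els : List ℕ := [(nat_lit 0xbdab49ca307b9ac5a928398a418820), (nat_lit 0xb5eae2a62d7d20359e465226460820), (nat_lit 0x7554788ca9bd8529d1a67a17023020),
    (nat_lit 0xb2a8f2916d7558389c48b9a6984820), (nat_lit 0x51dee9a62cad0705de48b18a269020)]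

theorem m11_2_nd : Nd m11 (2 ^ 1) :=
  m11_2.nd_perm (b' := 3) (s0' := 2214) (cs := m11_2_els) (l := m11_2_low) inj_pt (faithful_M24.subgroup _)
    (reps mem11 (by decide +kernel)) Nat.prime_two card_m11 (by decide +kernel) (by decide +kernel)
    (by decide +kernel)

noncomputable def m11_3 : Cert where
  p := 3
  n := (nat_lit 2)
  q := (nat_lit 3)
  D := (nat_lit 3)
  W := (nat_lit 20)
  tab := (nat_lit 0x20500205000000010500000)
  L := (nat_lit 2)
  ytab := (nat_lit 0x8210f002050210a00105)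
  gtab := (nat_lit 0)
  w := (nat_lit 14)
  F := (nat_lit 10)
  c := (nat_lit 4)
  Btab := (nat_lit 67617)
  wM := (nat_lit 4)
  Mtab := (nat_lit 0x100100)
  rels := [.b (nat_lit 0) (nat_lit 2) (nat_lit 1) (nat_lit 2) (nat_lit 256) (nat_lit 34) (nat_lit 34)]
  a1 := (nat_lit 4)
  o1 := (nat_lit 1)
  r1 := (nat_lit 0)
  a2 := (nat_lit 4)
  o2 := (nat_lit 1)
  r2 := (nat_lit 0)
  rows := [(nat_lit 0), (nat_lit 0), (nat_lit 0), (nat_lit 0),
    (nat_lit 2048), (nat_lit 0)]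

noncomputable def m11_3_low : List (ℕ × List ℕ) :=
  [((nat_lit 0), [(nat_lit 0), (nat_lit 1), (nat_lit 33)]),
    ((nat_lit 1), [(nat_lit 0), (nat_lit 2), (nat_lit 66)])]

noncomputable def m11_3_els : List ℕ := [(nat_lit 0xbdab49ca307b9ac5a928398a418820), (nat_lit 0xb2eb42b4e99b870bc584521e690820), (nat_lit 0xb2e8e991437d4cdb9e508b0a940820),
    (nat_lit 0x9be8eb10e35d5122a9a98b2f030440)]

theorem m11_3_nd : Nd m11 (3 ^ 1) :=
  m11_3.nd_perm (b' := 2) (s0' := 101) (cs := m11_3_els) (l := m11_3_low) inj_pt (faithful_M24.subgroup _)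
    (reps mem11 (by decide +kernel)) Nat.prime_three card_m11 (by decide +kernel) (by decide +kernel)
    (by decide +kernel)

noncomputable def m12_2 : Cert where
  p := 2
  n := (nat_lit 6)
  q := (nat_lit 4)
  D := (nat_lit 2)
  W := (nat_lit 26)
  tab := (nat_lit 0x6050001814000605000181400060500018140000000001414000505000141400c50a0001414000605000101400c40a0031028000405000141400a30a0020c28000305000000000820a00008140006050000414000000)
  L := (nat_lit 6)
  ytab := (nat_lit 0x1814000505a41885000020500018140006050030428000405002842800620a0031028000105)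
  gtab := (nat_lit 0x10100000000)
  w := (nat_lit 17)
  F := (nat_lit 20)
  c := (nat_lit 3)
  Btab := (nat_lit 0x90631084308821)
  wM := (nat_lit 3)
  Mtab := (nat_lit 0x30000006000030047000200e00040000)
  rels := [.b (nat_lit 0) (nat_lit 2) (nat_lit 1) (nat_lit 3) (nat_lit 196864) (nat_lit 34918) (nat_lit 37030), .b (nat_lit 1) (nat_lit 2) (nat_lit 1029) (nat_lit 2) (nat_lit 1284) (nat_lit 69) (nat_lit 0x2190a6),
    .b (nat_lit 0) (nat_lit 2) (nat_lit 2) (nat_lit 3) (nat_lit 197120) (nat_lit 1158) (nat_lit 36), .a (nat_lit 3) (nat_lit 3) (nat_lit 1) (nat_lit 1190),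
    .b (nat_lit 0) (nat_lit 2) (nat_lit 259) (nat_lit 2) (nat_lit 769) (nat_lit 2150) (nat_lit 1190), .a (nat_lit 3) (nat_lit 1) (nat_lit 1) (nat_lit 102),
    .a (nat_lit 2) (nat_lit 1) (nat_lit 1) (nat_lit 70), .a (nat_lit 4) (nat_lit 4) (nat_lit 1) (nat_lit 38),
    .a (nat_lit 2) (nat_lit 2) (nat_lit 1) (nat_lit 1), .a (nat_lit 6) (nat_lit 3) (nat_lit 3) (nat_lit 166),
    .a (nat_lit 4) (nat_lit 3) (nat_lit 3) (nat_lit 133), .a (nat_lit 4) (nat_lit 4) (nat_lit 3) (nat_lit 102),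
    .a (nat_lit 4) (nat_lit 2) (nat_lit 2) (nat_lit 4), .a (nat_lit 3) (nat_lit 2) (nat_lit 2) (nat_lit 3),
    .a (nat_lit 5) (nat_lit 5) (nat_lit 1) (nat_lit 1), .a (nat_lit 4) (nat_lit 4) (nat_lit 4) (nat_lit 134),
    .a (nat_lit 3) (nat_lit 3) (nat_lit 3) (nat_lit 101), .a (nat_lit 1) (nat_lit 1) (nat_lit 1) (nat_lit 38)]
  a1 := (nat_lit 22)
  o1 := (nat_lit 2)
  r1 := (nat_lit 0x10da9601c00985)
  a2 := (nat_lit 8)
  o2 := (nat_lit 1)
  r2 := (nat_lit 0)
  rows := [(nat_lit 0), (nat_lit 0), (nat_lit 0), (nat_lit 0),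
    (nat_lit 0), (nat_lit 0), (nat_lit 0), (nat_lit 0x6290149eac01107),
    (nat_lit 0), (nat_lit 0), (nat_lit 0), (nat_lit 0),
    (nat_lit 0x2ba00606140), (nat_lit 0x43500ace2e04183), (nat_lit 0x1e400a02080), (nat_lit 0),
    (nat_lit 1), (nat_lit 0x86200650120d080), (nat_lit 512), (nat_lit 0x82603488c400102),
    (nat_lit 0x9e6002d07e7b180), (nat_lit 0), (nat_lit 64), (nat_lit 0x4012cc2e0c186),
    (nat_lit 0x822014985c00106), (nat_lit 4096), (nat_lit 0x40200c2800004), (nat_lit 0x4020146838002)]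

noncomputable def m12_2_low : List (ℕ × List ℕ) :=
  [((nat_lit 0), [(nat_lit 0), (nat_lit 3), (nat_lit 2), (nat_lit 163)]),
    ((nat_lit 1), [(nat_lit 0), (nat_lit 162)]),
    ((nat_lit 2), [(nat_lit 0), (nat_lit 1), (nat_lit 129), (nat_lit 4)]),
    ((nat_lit 3), [(nat_lit 0), (nat_lit 6)])]

noncomputable def m12_2_els : List ℕ := [(nat_lit 0xbdab49ca307b9ac5a928398a418820), (nat_lit 0x8ade72a2f0b29a6ab9229928090c2c), (nat_lit 0x54e95b0a307b82c5dd262a0e4049a3),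
    (nat_lit 0x756d3a12e12aa123c5a8799621b120), (nat_lit 0x54e96ab1d02c5a23dd207a17231023), (nat_lit 0x55ab4989c95c4247de08298ec1c9a0),
    (nat_lit 0xbd6d3a0a305b9a47a923280ec44826), (nat_lit 0xbd26728d4db3822ac6005b1f232124), (nat_lit 0x3aaee8a162a3d8699649ab6c080c81)]

theorem m12_2_nd : Nd m12 (2 ^ 2) :=
  m12_2.nd_perm (b' := 4) (s0' := 10529) (cs := m12_2_els) (l := m12_2_low) inj_pt (faithful_M24.subgroup _)
    (reps mem12 (by decide +kernel)) Nat.prime_two card_m12 (by decide +kernel) (by decide +kernel)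
    (by decide +kernel)

noncomputable def m12_3 : Cert where
  p := 3
  n := (nat_lit 3)
  q := (nat_lit 3)
  D := (nat_lit 3)
  W := (nat_lit 15)
  tab := (nat_lit 0x305060a0c14000620a040a00000828000)
  L := (nat_lit 3)
  ytab := (nat_lit 0x1828305841408150850105)
  gtab := (nat_lit 0)
  w := (nat_lit 16)
  F := (nat_lit 16)
  c := (nat_lit 4)
  Btab := (nat_lit 0x4208422)
  wM := (nat_lit 4)
  Mtab := (nat_lit 0x6100010000)
  rels := [.a (nat_lit 66) (nat_lit 2) (nat_lit 1) (nat_lit 1), .b (nat_lit 0) (nat_lit 2) (nat_lit 258) (nat_lit 2) (nat_lit 513) (nat_lit 67) (nat_lit 2115),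
    .b (nat_lit 0) (nat_lit 2) (nat_lit 2) (nat_lit 2) (nat_lit 512) (nat_lit 35) (nat_lit 1059)]
  a1 := (nat_lit 7)
  o1 := (nat_lit 1)
  r1 := (nat_lit 0)
  a2 := (nat_lit 7)
  o2 := (nat_lit 1)
  r2 := (nat_lit 0)
  rows := [(nat_lit 0), (nat_lit 0), (nat_lit 0), (nat_lit 0),
    (nat_lit 0), (nat_lit 0), (nat_lit 0), (nat_lit 2048),
    (nat_lit 32768), (nat_lit 536576)]

noncomputable def m12_3_low : List (ℕ × List ℕ) :=
  [((nat_lit 0), [(nat_lit 0), (nat_lit 66), (nat_lit 2)]),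
    ((nat_lit 1), [(nat_lit 0), (nat_lit 1), (nat_lit 97)]),
    ((nat_lit 2), [(nat_lit 0), (nat_lit 3169), (nat_lit 3105)])]

noncomputable def m12_3_els : List ℕ := [(nat_lit 0xbdab49ca307b9ac5a928398a418820), (nat_lit 0x8deaba4ac02b8909a8487b4e61852c), (nat_lit 0x796349a0e175da45d923ac142930c0),
    (nat_lit 0xb45d49cae62a9245d408784e21b20d), (nat_lit 0x3bd5458ca28d4019b9a8b32f091889)]

theorem m12_3_nd : Nd m12 (3 ^ 1) :=
  m12_3.nd_perm (b' := 3) (s0' := 163) (cs := m12_3_els) (l := m12_3_low) inj_pt (faithful_M24.subgroup _)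
    (reps mem12 (by decide +kernel)) Nat.prime_three card_m12 (by decide +kernel) (by decide +kernel)
    (by decide +kernel)

noncomputable def m22_2 : Cert where
  p := 2
  n := (nat_lit 7)
  q := (nat_lit 8)
  D := (nat_lit 2)
  W := (nat_lit 26)
  tab := (nat_lit 0x7050001c140007050001c140007050001c140007050000000000605000181400060500398280006050001814000705003942800e50a00394281cc50f0001414000000003102800040500010140004050001c1400a30a0038c280003050001c1400820a00008140000000000414000000)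
  L := (nat_lit 4)
  ytab := (nat_lit 0x18428000605a41845000610a073103c0006050038428000105)
  gtab := (nat_lit 0x1010000)
  w := (nat_lit 20)
  F := (nat_lit 39)
  c := (nat_lit 4)
  Btab := (nat_lit 0x6308c211904310822)
  wM := (nat_lit 4)
  Mtab := (nat_lit 0xe00000000e0000000e00000000e1f000000f0001000100000000000)
  rels := [.b (nat_lit 1) (nat_lit 2) (nat_lit 515) (nat_lit 2) (nat_lit 770) (nat_lit 1126) (nat_lit 133), .a (nat_lit 3) (nat_lit 2) (nat_lit 1) (nat_lit 0x110c85),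
    .a (nat_lit 4) (nat_lit 3) (nat_lit 2) (nat_lit 0x2190a6), .b (nat_lit 0) (nat_lit 2) (nat_lit 1) (nat_lit 2) (nat_lit 256) (nat_lit 38) (nat_lit 1158),
    .a (nat_lit 4) (nat_lit 3) (nat_lit 1) (nat_lit 0x1190c7), .a (nat_lit 6) (nat_lit 2) (nat_lit 1) (nat_lit 0x1110c7),
    .a (nat_lit 3) (nat_lit 2) (nat_lit 2) (nat_lit 103), .a (nat_lit 5) (nat_lit 5) (nat_lit 1) (nat_lit 39),
    .a (nat_lit 4) (nat_lit 3) (nat_lit 3) (nat_lit 135), .a (nat_lit 3) (nat_lit 3) (nat_lit 2) (nat_lit 71),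
    .a (nat_lit 2) (nat_lit 2) (nat_lit 1) (nat_lit 39), .a (nat_lit 5) (nat_lit 1) (nat_lit 1) (nat_lit 5),
    .a (nat_lit 5) (nat_lit 4) (nat_lit 4) (nat_lit 5), .a (nat_lit 6) (nat_lit 3) (nat_lit 3) (nat_lit 199),
    .a (nat_lit 4) (nat_lit 4) (nat_lit 3) (nat_lit 3), .a (nat_lit 6) (nat_lit 6) (nat_lit 2) (nat_lit 2),
    .a (nat_lit 4) (nat_lit 2) (nat_lit 2) (nat_lit 135), .a (nat_lit 3) (nat_lit 1) (nat_lit 1) (nat_lit 3),
    .a (nat_lit 2) (nat_lit 1) (nat_lit 1) (nat_lit 2), .a (nat_lit 5) (nat_lit 5) (nat_lit 5) (nat_lit 167),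
    .a (nat_lit 6) (nat_lit 6) (nat_lit 3) (nat_lit 3), .a (nat_lit 3) (nat_lit 3) (nat_lit 3) (nat_lit 103),
    .a (nat_lit 2) (nat_lit 2) (nat_lit 2) (nat_lit 71), .a (nat_lit 6) (nat_lit 6) (nat_lit 1) (nat_lit 1),
    .a (nat_lit 4) (nat_lit 4) (nat_lit 1) (nat_lit 1)]
  a1 := (nat_lit 27)
  o1 := (nat_lit 4)
  r1 := (nat_lit 0xc4e6e0840cac624e2cc00c0f)
  a2 := (nat_lit 8)
  o2 := (nat_lit 1)
  r2 := (nat_lit 0)
  rows := [(nat_lit 0), (nat_lit 0), (nat_lit 0), (nat_lit 0),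
    (nat_lit 0), (nat_lit 0), (nat_lit 0), (nat_lit 0),
    (nat_lit 0), (nat_lit 0), (nat_lit 0), (nat_lit 0x2e1d9046023257e9f22002000e),
    (nat_lit 0x18800001807881010f000000), (nat_lit 0), (nat_lit 0xe2f370ca0edeb9271fe00e0002), (nat_lit 0),
    (nat_lit 0x5b60d0a8060533fb9657050003), (nat_lit 0x15153b15a14aaf58a74d504f00f), (nat_lit 0x1159370d808ce194418a6110003), (nat_lit 0xad4070dc040f59bac4330a0009),
    (nat_lit 0xf35dd70d0fe4739a77eb2f4000f), (nat_lit 0), (nat_lit 0xa4c030680c1bbd066cc70a000c), (nat_lit 1),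
    (nat_lit 0xc6603067060b2d2376ad0c000e), (nat_lit 0xcec070ea0c0fe8a6bc2b0c0006), (nat_lit 0xac4070dc040f59aac4330a0008), (nat_lit 0x424090260401276a54e504000a),
    (nat_lit 0), (nat_lit 0x8440a042040ad6da34c6080006), (nat_lit 65536), (nat_lit 0x100000),
    (nat_lit 0xe000000e00200f0e02000000), (nat_lit 0x10000000), (nat_lit 0x8440a042040ad6ca24c6080004), (nat_lit 0x8cc060ce0c063a36ec4a08000a)]

noncomputable def m22_2_low : List (ℕ × List ℕ) :=
  [((nat_lit 0), [(nat_lit 0), (nat_lit 2)]),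
    ((nat_lit 1), [(nat_lit 0), (nat_lit 6307), (nat_lit 227), (nat_lit 5)]),
    ((nat_lit 2), [(nat_lit 0), (nat_lit 1), (nat_lit 228), (nat_lit 225), (nat_lit 7361), (nat_lit 6273), (nat_lit 230), (nat_lit 196), (nat_lit 7364), (nat_lit 129), (nat_lit 235649), (nat_lit 7297), (nat_lit 4), (nat_lit 6), (nat_lit 7), (nat_lit 193)])]

noncomputable def m22_2_els : List ℕ := [(nat_lit 0xbdab49ca307b9ac5a928398a418820), (nat_lit 0xbda68abcad93a0a4b17439a2418440), (nat_lit 0xbd90d2ce0f51c34944497196325580),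
    (nat_lit 0xb9e8913e4c29a0a43433b3a241aea0), (nat_lit 0xbd94560509139736d61139a841be40), (nat_lit 0xb9a2565128a9e6b689ea758241c240),
    (nat_lit 0xbd84b0b211538b2a3d09399a41d660), (nat_lit 0xbd921595ea8b98d9c2a239a441a280), (nat_lit 0xbda714882da1150ab1721990e395e0),
    (nat_lit 0xbb554088ce3caa95d9f16150324260)]

theorem m22_2_nd : Nd m22 (2 ^ 3) :=
  m22_2.nd_perm (b' := 3) (s0' := 1219) (cs := m22_2_els) (l := m22_2_low) inj_pt (faithful_M24.subgroup _)
    (reps mem22 (by decide +kernel)) Nat.prime_two card_m22 (by decide +kernel) (by decide +kernel)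
    (by decide +kernel)

noncomputable def m22_3 : Cert where
  p := 3
  n := (nat_lit 2)
  q := (nat_lit 9)
  D := (nat_lit 3)
  W := (nat_lit 10)
  tab := (nat_lit 0x2058140041400)
  L := (nat_lit 0)
  ytab := (nat_lit 0)
  gtab := (nat_lit 0)
  w := (nat_lit 16)
  F := (nat_lit 7)
  c := (nat_lit 5)
  Btab := (nat_lit 67617)
  wM := (nat_lit 5)
  Mtab := (nat_lit 0x2000400)
  rels := [.a (nat_lit 66) (nat_lit 2) (nat_lit 1) (nat_lit 1)]
  a1 := (nat_lit 4)
  o1 := (nat_lit 3)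
  r1 := (nat_lit 10)
  a2 := (nat_lit 2)
  o2 := (nat_lit 1)
  r2 := (nat_lit 0)
  rows := [(nat_lit 0), (nat_lit 0), (nat_lit 0), (nat_lit 0),
    (nat_lit 1), (nat_lit 0)]

noncomputable def m22_3_low : List (ℕ × List ℕ) :=
  [((nat_lit 0), [(nat_lit 0), (nat_lit 33), (nat_lit 1)]),
    ((nat_lit 1), [(nat_lit 0), (nat_lit 66), (nat_lit 2)])]

noncomputable def m22_3_els : List ℕ := [(nat_lit 0xbdab49ca307b9ac5a928398a418820), (nat_lit 0xbc0549a12fb31cd1c8aa3d62b21820), (nat_lit 0xbc1b33aa2fb0d64aa132a30a613820)]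

theorem m22_3_nd : Nd m22 (3 ^ 2) :=
  m22_3.nd_perm (b' := 2) (s0' := 69) (cs := m22_3_els) (l := m22_3_low) inj_pt (faithful_M24.subgroup _)
    (reps mem22 (by decide +kernel)) Nat.prime_three card_m22 (by decide +kernel) (by decide +kernel)
    (by decide +kernel)

noncomputable def m23_2 : Cert where
  p := 2
  n := (nat_lit 7)
  q := (nat_lit 2)
  D := (nat_lit 2)
  W := (nat_lit 31)
  tab := (nat_lit 0x1c1400003828000070500000e0a00001c14000038280000705000000000000181400003028000e60a0001cc14000018140000302800007050001ca140003142800e62878000c50a00000a0a000000000006205000004050000080a0000101400052050000a30a0039061e00000c1400002028000820a0000040a00000000000008280000000)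
  L := (nat_lit 11)
  ytab := (nat_lit 0xc5207800006050018821e000290280000382800007050001cc1400001817948310c800005050039821e00001017106208c8000620a000188140000041400e4087800006050000080a000010141cc408a00000105)
  gtab := (nat_lit 0x202010101010101000000)
  w := (nat_lit 16)
  F := (nat_lit 35)
  c := (nat_lit 2)
  Btab := (nat_lit 0x63108211904308c22)
  wM := (nat_lit 2)
  Mtab := (nat_lit 0x28080008000240cc4030400000)
  rels := [.b (nat_lit 1) (nat_lit 2) (nat_lit 1029) (nat_lit 3) (nat_lit 460036) (nat_lit 68742) (nat_lit 68743), .b (nat_lit 2) (nat_lit 2) (nat_lit 2314) (nat_lit 2) (nat_lit 2569) (nat_lit 4262) (nat_lit 0x22190a6),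
    .b (nat_lit 1) (nat_lit 2) (nat_lit 774) (nat_lit 3) (nat_lit 460291) (nat_lit 1190) (nat_lit 68774), .a (nat_lit 3) (nat_lit 3) (nat_lit 1) (nat_lit 37030),
    .a (nat_lit 3) (nat_lit 2) (nat_lit 2) (nat_lit 100), .b (nat_lit 0) (nat_lit 2) (nat_lit 1) (nat_lit 2) (nat_lit 256) (nat_lit 36) (nat_lit 1223),
    .a (nat_lit 4) (nat_lit 3) (nat_lit 3) (nat_lit 5), .a (nat_lit 5) (nat_lit 2) (nat_lit 2) (nat_lit 4263),
    .b (nat_lit 0) (nat_lit 2) (nat_lit 258) (nat_lit 2) (nat_lit 513) (nat_lit 134) (nat_lit 39), .a (nat_lit 5) (nat_lit 5) (nat_lit 3) (nat_lit 103),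
    .a (nat_lit 5) (nat_lit 5) (nat_lit 1) (nat_lit 39), .b (nat_lit 1) (nat_lit 2) (nat_lit 776) (nat_lit 2) (nat_lit 2051) (nat_lit 39) (nat_lit 4295),
    .a (nat_lit 3) (nat_lit 1) (nat_lit 1) (nat_lit 3), .a (nat_lit 3) (nat_lit 3) (nat_lit 3) (nat_lit 3205),
    .a (nat_lit 6) (nat_lit 2) (nat_lit 2) (nat_lit 134), .a (nat_lit 6) (nat_lit 5) (nat_lit 5) (nat_lit 199),
    .a (nat_lit 5) (nat_lit 4) (nat_lit 4) (nat_lit 5), .a (nat_lit 4) (nat_lit 4) (nat_lit 3) (nat_lit 3),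
    .a (nat_lit 7) (nat_lit 2) (nat_lit 2) (nat_lit 135), .a (nat_lit 6) (nat_lit 6) (nat_lit 2) (nat_lit 2),
    .a (nat_lit 5) (nat_lit 1) (nat_lit 1) (nat_lit 5), .a (nat_lit 2) (nat_lit 1) (nat_lit 1) (nat_lit 2),
    .a (nat_lit 6) (nat_lit 6) (nat_lit 5) (nat_lit 5), .a (nat_lit 5) (nat_lit 5) (nat_lit 5) (nat_lit 167),
    .a (nat_lit 7) (nat_lit 7) (nat_lit 2) (nat_lit 2), .a (nat_lit 2) (nat_lit 2) (nat_lit 2) (nat_lit 68)]
  a1 := (nat_lit 15)
  o1 := (nat_lit 1)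
  r1 := (nat_lit 0)
  a2 := (nat_lit 15)
  o2 := (nat_lit 1)
  r2 := (nat_lit 0)
  rows := [(nat_lit 0), (nat_lit 0), (nat_lit 0), (nat_lit 0),
    (nat_lit 0), (nat_lit 0), (nat_lit 0), (nat_lit 0),
    (nat_lit 0), (nat_lit 0), (nat_lit 0), (nat_lit 0x304000080000),
    (nat_lit 16), (nat_lit 0), (nat_lit 0x10c000081000), (nat_lit 0),
    (nat_lit 0x330beeac60880), (nat_lit 0x7c04cd77e6e470), (nat_lit 0x2202f918c0cc0), (nat_lit 0x4d18a987ac2440),
    (nat_lit 0x5e5c4fd59c6cd0), (nat_lit 0), (nat_lit 0x21028881c4000), (nat_lit 0x6f11212bf1a460),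
    (nat_lit 0x4d2ca987f62440), (nat_lit 0x300008840000), (nat_lit 0x210258b180440), (nat_lit 0x100008bc0000),
    (nat_lit 0), (nat_lit 0x8a20024ac83880), (nat_lit 0x12000c6a0000), (nat_lit 0x2203fa1060cc0),
    (nat_lit 0x2000088c0000), (nat_lit 256), (nat_lit 0x220000e50000), (nat_lit 0x8a000202cc0880)]

noncomputable def m23_2_low : List (ℕ × List ℕ) :=
  [((nat_lit 0), [(nat_lit 0), (nat_lit 2)]),
    ((nat_lit 1), [(nat_lit 0), (nat_lit 98), (nat_lit 5), (nat_lit 5218)]),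
    ((nat_lit 2), [(nat_lit 0), (nat_lit 7361), (nat_lit 193), (nat_lit 235649), (nat_lit 225), (nat_lit 1), (nat_lit 6273), (nat_lit 7), (nat_lit 196), (nat_lit 7364), (nat_lit 230), (nat_lit 228), (nat_lit 129), (nat_lit 7297), (nat_lit 4), (nat_lit 6)])]

noncomputable def m23_2_els : List ℕ := [(nat_lit 0xbdab49ca307b9ac5a928398a418820), (nat_lit 0xb92b48c272119686a82c3b8b61bd20), (nat_lit 0xb98674c268590527282ca34afada20),
    (nat_lit 0xbb86a7c6566b03059c8229a88aa660), (nat_lit 0xbb6b40a12c73ed022a32388ab19a60), (nat_lit 0xbc2a7b212f9b02d21651a09461adc0),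
    (nat_lit 0xb86b46996e6426f8a8823c8a91a2c0), (nat_lit 0xbbeb484653b35c1329093aca219180), (nat_lit 0xb8475439a964271116cf39006a2e4a),
    (nat_lit 0xbc00a910519996e4d02c3a0af1d9b5), (nat_lit 0xbc41013d84321320cca7759aa1d175)]

theorem m23_2_nd : Nd m23 (2 ^ 1) :=
  m23_2.nd_perm (b' := 3) (s0' := 1187) (cs := m23_2_els) (l := m23_2_low) inj_pt (faithful_M24.subgroup _)
    (reps mem23 (by decide +kernel)) Nat.prime_two card_m23 (by decide +kernel) (by decide +kernel)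
    (by decide +kernel)

noncomputable def m23_3 : Cert where
  p := 3
  n := (nat_lit 2)
  q := (nat_lit 3)
  D := (nat_lit 3)
  W := (nat_lit 20)
  tab := (nat_lit 0x20500205000000010500000)
  L := (nat_lit 2)
  ytab := (nat_lit 0x8410f002050010500105)
  gtab := (nat_lit 0)
  w := (nat_lit 14)
  F := (nat_lit 9)
  c := (nat_lit 4)
  Btab := (nat_lit 67617)
  wM := (nat_lit 4)
  Mtab := (nat_lit 0x100100)
  rels := [.b (nat_lit 0) (nat_lit 2) (nat_lit 1) (nat_lit 2) (nat_lit 256) (nat_lit 34) (nat_lit 33858)]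
  a1 := (nat_lit 4)
  o1 := (nat_lit 1)
  r1 := (nat_lit 0)
  a2 := (nat_lit 4)
  o2 := (nat_lit 1)
  r2 := (nat_lit 0)
  rows := [(nat_lit 0), (nat_lit 0), (nat_lit 0), (nat_lit 0),
    (nat_lit 2048), (nat_lit 0)]

noncomputable def m23_3_low : List (ℕ × List ℕ) :=
  [((nat_lit 0), [(nat_lit 0), (nat_lit 2), (nat_lit 66)]),
    ((nat_lit 1), [(nat_lit 0), (nat_lit 1), (nat_lit 33)])]

noncomputable def m23_3_els : List ℕ := [(nat_lit 0xbdab49ca307b9ac5a928398a418820), (nat_lit 0xb92a831690926ce1ad9199ded50820), (nat_lit 0xbd0466ca757b2291adc7258a854020),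
    (nat_lit 0xbce14b2e35538ec93d286906628801)]

theorem m23_3_nd : Nd m23 (3 ^ 1) :=
  m23_3.nd_perm (b' := 2) (s0' := 98) (cs := m23_3_els) (l := m23_3_low) inj_pt (faithful_M24.subgroup _)
    (reps mem23 (by decide +kernel)) Nat.prime_three card_m23 (by decide +kernel) (by decide +kernel)
    (by decide +kernel)

noncomputable def m24_2 : Cert where
  p := 2
  n := (nat_lit 10)
  q := (nat_lit 2)
  D := (nat_lit 2)
  W := (nat_lit 32)
  tab := (nat_lit 0xa0500000a0500000a0500000a0500000a0500000a0500000a0500000a0500000a0500000a0500000000000009050000090500000905000009050001490a0001490a0001490a0001490a000009050000000000000805000008050000080500000805000008050001480a0000080500000805000000000001470a000007050029070f00000705052507140001070a0000070500000a050001460a0001260a000006050001460a0001060a00000605000000000001450a0001050a000005050000050500000505052505140000e40aa4a0a4190028a40f000004050001480a0000c30a0029030f00000305000000000000a20a00000205000000000000010500000000)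
  L := (nat_lit 16)
  ytab := (nat_lit 0x3148114000008050000e50a000005050028e60f000002050518a2140000810a00000a05000008050029250f000007050001050a000005050518a114000003050029010f0000010500000a0500000a0500000505000008050029280f0000e60a0029010f00000505a4a041190000e30a0024e60f0000820a0000080500000105)
  gtab := (nat_lit 0x2020202010101010100000000000000)
  w := (nat_lit 18)
  F := (nat_lit 54)
  c := (nat_lit 2)
  Btab := (nat_lit 0x2106310821190440904308c22)
  wM := (nat_lit 2)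
  Mtab := (nat_lit 0x820020a0008a008000002000002403001000c040000100000000)
  rels := [.b (nat_lit 2) (nat_lit 2) (nat_lit 3087) (nat_lit 2) (nat_lit 3852) (nat_lit 1160) (nat_lit 0x4442a12a), .a (nat_lit 4) (nat_lit 3) (nat_lit 2) (nat_lit 0x10c8531d2a),
    .b (nat_lit 0) (nat_lit 2) (nat_lit 516) (nat_lit 3) (nat_lit 394242) (nat_lit 102) (nat_lit 1098), .b (nat_lit 0) (nat_lit 2) (nat_lit 2) (nat_lit 3) (nat_lit 393728) (nat_lit 36074) (nat_lit 35114),
    .a (nat_lit 4) (nat_lit 4) (nat_lit 3) (nat_lit 3241), .b (nat_lit 0) (nat_lit 2) (nat_lit 772) (nat_lit 3) (nat_lit 394243) (nat_lit 170218) (nat_lit 1322),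
    .b (nat_lit 1) (nat_lit 2) (nat_lit 2058) (nat_lit 2) (nat_lit 2568) (nat_lit 103) (nat_lit 39210), .b (nat_lit 1) (nat_lit 2) (nat_lit 1802) (nat_lit 3) (nat_lit 723463) (nat_lit 1256) (nat_lit 0x12a12a),
    .a (nat_lit 6) (nat_lit 4) (nat_lit 4) (nat_lit 170249), .b (nat_lit 1) (nat_lit 2) (nat_lit 2057) (nat_lit 3) (nat_lit 723208) (nat_lit 3240) (nat_lit 39178),
    .b (nat_lit 0) (nat_lit 2) (nat_lit 261) (nat_lit 3) (nat_lit 394497) (nat_lit 69898) (nat_lit 170217), .b (nat_lit 0) (nat_lit 2) (nat_lit 1) (nat_lit 2) (nat_lit 256) (nat_lit 1092) (nat_lit 204041),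
    .a (nat_lit 5) (nat_lit 4) (nat_lit 3) (nat_lit 0x6429d0a), .b (nat_lit 2) (nat_lit 2) (nat_lit 3342) (nat_lit 2) (nat_lit 3597) (nat_lit 69) (nat_lit 166),
    .a (nat_lit 3) (nat_lit 3) (nat_lit 2) (nat_lit 72), .a (nat_lit 6) (nat_lit 4) (nat_lit 3) (nat_lit 0x3218e9),
    .a (nat_lit 5) (nat_lit 3) (nat_lit 2) (nat_lit 0x2194c8), .b (nat_lit 1) (nat_lit 2) (nat_lit 2314) (nat_lit 2) (nat_lit 2569) (nat_lit 167) (nat_lit 8490),
    .b (nat_lit 0) (nat_lit 2) (nat_lit 4) (nat_lit 2) (nat_lit 1024) (nat_lit 1223) (nat_lit 298), .a (nat_lit 9) (nat_lit 4) (nat_lit 3) (nat_lit 102633),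
    .a (nat_lit 4) (nat_lit 3) (nat_lit 3) (nat_lit 4362), .a (nat_lit 9) (nat_lit 3) (nat_lit 2) (nat_lit 68809),
    .b (nat_lit 0) (nat_lit 2) (nat_lit 262) (nat_lit 2) (nat_lit 1537) (nat_lit 2186) (nat_lit 204074), .a (nat_lit 5) (nat_lit 4) (nat_lit 4) (nat_lit 8490),
    .a (nat_lit 4) (nat_lit 4) (nat_lit 4) (nat_lit 0x42a12a), .a (nat_lit 7) (nat_lit 2) (nat_lit 2) (nat_lit 7),
    .a (nat_lit 7) (nat_lit 7) (nat_lit 2) (nat_lit 2), .b (nat_lit 0) (nat_lit 2) (nat_lit 3) (nat_lit 2) (nat_lit 768) (nat_lit 37) (nat_lit 42),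
    .a (nat_lit 6) (nat_lit 6) (nat_lit 4) (nat_lit 138), .a (nat_lit 9) (nat_lit 3) (nat_lit 3) (nat_lit 8490),
    .b (nat_lit 1) (nat_lit 2) (nat_lit 2315) (nat_lit 2) (nat_lit 2825) (nat_lit 168) (nat_lit 5386), .a (nat_lit 7) (nat_lit 7) (nat_lit 4) (nat_lit 4),
    .a (nat_lit 7) (nat_lit 3) (nat_lit 3) (nat_lit 7434), .a (nat_lit 6) (nat_lit 3) (nat_lit 3) (nat_lit 6410),
    .b (nat_lit 0) (nat_lit 2) (nat_lit 1286) (nat_lit 2) (nat_lit 1541) (nat_lit 266) (nat_lit 170), .b (nat_lit 0) (nat_lit 2) (nat_lit 5) (nat_lit 2) (nat_lit 1280) (nat_lit 40) (nat_lit 168),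
    .a (nat_lit 3) (nat_lit 2) (nat_lit 2) (nat_lit 3), .a (nat_lit 8) (nat_lit 6) (nat_lit 6) (nat_lit 266),
    .a (nat_lit 7) (nat_lit 7) (nat_lit 6) (nat_lit 6), .a (nat_lit 5) (nat_lit 5) (nat_lit 4) (nat_lit 4),
    .a (nat_lit 9) (nat_lit 9) (nat_lit 3) (nat_lit 3), .a (nat_lit 6) (nat_lit 6) (nat_lit 3) (nat_lit 106),
    .a (nat_lit 5) (nat_lit 5) (nat_lit 3) (nat_lit 3), .a (nat_lit 3) (nat_lit 3) (nat_lit 3) (nat_lit 3338),
    .a (nat_lit 9) (nat_lit 2) (nat_lit 2) (nat_lit 9), .a (nat_lit 9) (nat_lit 9) (nat_lit 2) (nat_lit 2),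
    .a (nat_lit 8) (nat_lit 2) (nat_lit 2) (nat_lit 8), .a (nat_lit 8) (nat_lit 8) (nat_lit 2) (nat_lit 2),
    .a (nat_lit 6) (nat_lit 2) (nat_lit 2) (nat_lit 6), .a (nat_lit 9) (nat_lit 1) (nat_lit 1) (nat_lit 9),
    .a (nat_lit 9) (nat_lit 9) (nat_lit 1) (nat_lit 1), .a (nat_lit 7) (nat_lit 7) (nat_lit 1) (nat_lit 1),
    .a (nat_lit 6) (nat_lit 1) (nat_lit 1) (nat_lit 6), .a (nat_lit 2) (nat_lit 1) (nat_lit 1) (nat_lit 2),
    .a (nat_lit 2) (nat_lit 2) (nat_lit 1) (nat_lit 1), .a (nat_lit 8) (nat_lit 8) (nat_lit 6) (nat_lit 6),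
    .a (nat_lit 6) (nat_lit 6) (nat_lit 6) (nat_lit 202), .a (nat_lit 7) (nat_lit 7) (nat_lit 3) (nat_lit 3),
    .a (nat_lit 8) (nat_lit 8) (nat_lit 1) (nat_lit 1)]
  a1 := (nat_lit 20)
  o1 := (nat_lit 1)
  r1 := (nat_lit 0)
  a2 := (nat_lit 20)
  o2 := (nat_lit 1)
  r2 := (nat_lit 0)
  rows := [(nat_lit 0), (nat_lit 0), (nat_lit 0), (nat_lit 0),
    (nat_lit 0), (nat_lit 0), (nat_lit 0), (nat_lit 0),
    (nat_lit 0), (nat_lit 0), (nat_lit 0), (nat_lit 0),
    (nat_lit 0), (nat_lit 0), (nat_lit 0), (nat_lit 0),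
    (nat_lit 0x430bcc8202a020210), (nat_lit 0x430bcc8202a02f210), (nat_lit 0xc4d472320030599ae8ae36909c9d0), (nat_lit 0xc0800a02ed15416e1de0a4170),
    (nat_lit 0xc109448202a024230), (nat_lit 0), (nat_lit 0xc231682f0b107823c5ca0389f60d0), (nat_lit 0x12b99efa2ecb7fffb777e80d2b37b0),
    (nat_lit 0x32101341e6fcf076400c9aba2f52c0), (nat_lit 0x13698a2785614d296e39ee805f906c0), (nat_lit 0x89ad28c0b72f21b633728b064870), (nat_lit 0x12b99efa2ecb7fffb4b7e8322b33b0),
    (nat_lit 0), (nat_lit 0x2c0334006819a76a3c15401891c250), (nat_lit 0x1f0f4e07d74c0caea7ba9eea74807e0), (nat_lit 0x78b32360440c8146ac335db10b30),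
    (nat_lit 0x8fb4f26e83303b01cacaaf5bb25820), (nat_lit 0x220aa20a4a9e804680094b62040180), (nat_lit 0x22810de08a2ba1f72236bb650039c0), (nat_lit 0x2272128babc284e66c3d39e8b5a190),
    (nat_lit 0), (nat_lit 0x20800022a808a08322d800172d0880), (nat_lit 0x20a98fa9481f8f89f63b52a70ce9f0), (nat_lit 0x2020228288a8a0a88008e4200aa080),
    (nat_lit 0x22aa8328ca1688478a41a9fb2609a0), (nat_lit 0x2008a2200828a0a10270b2b5040a80), (nat_lit 0x2020228288a8a0a8c00820200aa380), (nat_lit 0x208000228808a003225a8017200880),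
    (nat_lit 0x28822822082aaa810ad0001d0e8820), (nat_lit 0), (nat_lit 0x4bbca3a02d07bbee34b363f9e850), (nat_lit 0xa0012da348c7e4c27e785a95b0ead0),
    (nat_lit 0xa2898d6e8a73ba950a351349be9ae0), (nat_lit 0x288ad02c2250c3ef4edc8020e4370), (nat_lit 0xa8a20080bc0883882cb290b40120), (nat_lit 0x8022aa00682a080ac3c025baaa20),
    (nat_lit 0x8088a2080050116aa003a82c0c0300), (nat_lit 0x20a0000888008a60080a6020b000a0), (nat_lit 0x20800222a207021000291e028a0ab00), (nat_lit 0),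
    (nat_lit 0x80220080200020a04a828cea0000), (nat_lit 0x202022a288a8a0a802c820050aaa80), (nat_lit 0x2020228288a8a0a8800860200aa080), (nat_lit 0x20a0002088b0a8208af8200f9809a0),
    (nat_lit 0x20202802a02a0804622a6080200), (nat_lit 256), (nat_lit 0x82802808a8287a828408a220), (nat_lit 0x80400000000200),
    (nat_lit 0x80220080200020a04a828c9a0000), (nat_lit 0x20a02802a0a0228e2a0060880a0)]

noncomputable def m24_2_low : List (ℕ × List ℕ) :=
  [((nat_lit 0), [(nat_lit 0), (nat_lit 9444), (nat_lit 4), (nat_lit 2), (nat_lit 295), (nat_lit 9412), (nat_lit 327), (nat_lit 131)]),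
    ((nat_lit 1), [(nat_lit 0), (nat_lit 9281)]),
    ((nat_lit 2), [(nat_lit 0), (nat_lit 6307), (nat_lit 3), (nat_lit 6)]),
    ((nat_lit 3), [(nat_lit 0), (nat_lit 10), (nat_lit 336033), (nat_lit 325), (nat_lit 1), (nat_lit 261), (nat_lit 10501), (nat_lit 321), (nat_lit 8), (nat_lit 257), (nat_lit 161), (nat_lit 10497), (nat_lit 328), (nat_lit 5), (nat_lit 10401), (nat_lit 8353)])]

noncomputable def m24_2_els : List ℕ := [(nat_lit 0xbdab49ca307b9ac5a928398a418820), (nat_lit 0xbdab4395af83a2a5b06498648488c0), (nat_lit 0x15ab47a62a980c45c247434ac1dc2e),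
    (nat_lit 0x5d8544466f0b8a3bb1526c0874d4c0), (nat_lit 0xa5c0244524854aa74c6c784c7959ab), (nat_lit 0xbdab462428238d359e505346f28a20),
    (nat_lit 0x1597479a0523933ac6411b54c45ce0), (nat_lit 0x5804e62545250d3bc6430b60f454f6), (nat_lit 0xbdab4690e34ba66585e58b11280940),
    (nat_lit 0x1517694ce330089a85858bd0d85d4e), (nat_lit 0xbdab4234aa63a4f5c0c74263308860), (nat_lit 0x2dd434a61559b010cef620898dcb5),
    (nat_lit 0xa805491110359af585253b23355c6e), (nat_lit 0x9b12fa8207bc9c2322d12d14b0906d)]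

theorem m24_2_nd : Nd (⊤ : Subgroup M24) (2 ^ 1) :=
  m24_2.nd_perm (b' := 4) (s0' := 35456) (cs := m24_2_els) (l := m24_2_low) inj_pt (faithful_M24.subgroup _)
    (reps Mem.top (by decide +kernel)) Nat.prime_two (Subgroup.card_top.trans card_M24) (by decide +kernel) (by decide +kernel)
    (by decide +kernel)

noncomputable def m24_3 : Cert where
  p := 3
  n := (nat_lit 3)
  q := (nat_lit 3)
  D := (nat_lit 3)
  W := (nat_lit 20)
  tab := (nat_lit 0x3050030500305000000620a00205000000010500000)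
  L := (nat_lit 3)
  ytab := (nat_lit 0x30500305c420f002050210a00105)
  gtab := (nat_lit 0)
  w := (nat_lit 16)
  F := (nat_lit 16)
  c := (nat_lit 4)
  Btab := (nat_lit 0x4208422)
  wM := (nat_lit 4)
  Mtab := (nat_lit 0x6100010000)
  rels := [.b (nat_lit 0) (nat_lit 2) (nat_lit 258) (nat_lit 2) (nat_lit 513) (nat_lit 67) (nat_lit 67683), .a (nat_lit 66) (nat_lit 2) (nat_lit 1) (nat_lit 1),
    .b (nat_lit 0) (nat_lit 2) (nat_lit 2) (nat_lit 2) (nat_lit 512) (nat_lit 35) (nat_lit 1059)]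
  a1 := (nat_lit 7)
  o1 := (nat_lit 1)
  r1 := (nat_lit 0)
  a2 := (nat_lit 7)
  o2 := (nat_lit 1)
  r2 := (nat_lit 0)
  rows := [(nat_lit 0), (nat_lit 0), (nat_lit 0), (nat_lit 0),
    (nat_lit 0), (nat_lit 0), (nat_lit 0), (nat_lit 2048),
    (nat_lit 524288), (nat_lit 229376)]

noncomputable def m24_3_low : List (ℕ × List ℕ) :=
  [((nat_lit 0), [(nat_lit 0), (nat_lit 66), (nat_lit 2)]),
    ((nat_lit 1), [(nat_lit 0), (nat_lit 3), (nat_lit 99)]),
    ((nat_lit 2), [(nat_lit 0), (nat_lit 33), (nat_lit 1)])]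

noncomputable def m24_3_els : List ℕ := [(nat_lit 0xbdab49ca307b9ac5a928398a418820), (nat_lit 0xa0c8e986325ddec69928a82c728a0a), (nat_lit 0xa214e611b2b5c6929e6fa80508acc1),
    (nat_lit 0xb8c149d4476b96c78531342ca2a092), (nat_lit 0xa2eb79ca211b8a9b1988229a778a00)]

theorem m24_3_nd : Nd (⊤ : Subgroup M24) (3 ^ 1) :=
  m24_3.nd_perm (b' := 3) (s0' := 73) (cs := m24_3_els) (l := m24_3_low) inj_pt (faithful_M24.subgroup _)
    (reps Mem.top (by decide +kernel)) Nat.prime_three (Subgroup.card_top.trans card_M24) (by decide +kernel) (by decide +kernel)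
    (by decide +kernel)

theorem ndL11 : NdL m11 [(2, 0), (3, 0), (5, 0), (11, 0)] :=
  (((NdL.nil.cyc card_m11 11).cyc card_m11 5).cons Nat.prime_three m11_3_nd).cons Nat.prime_two m11_2_nd

theorem ndL12 : NdL m12 [(2, 1), (3, 0), (5, 0), (11, 0)] :=
  (((NdL.nil.cyc card_m12 11).cyc card_m12 5).cons Nat.prime_three m12_3_nd).cons Nat.prime_two m12_2_nd

theorem ndL22 : NdL m22 [(2, 2), (3, 1), (5, 0), (7, 0), (11, 0)] :=
  ((((NdL.nil.cyc card_m22 11).cyc card_m22 7).cyc card_m22 5).cons Nat.prime_three m22_3_nd).cons Nat.prime_two m22_2_nd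

theorem ndL23 : NdL m23 [(2, 0), (3, 0), (5, 0), (7, 0), (11, 0), (23, 0)] :=
  (((((NdL.nil.cyc card_m23 23).cyc card_m23 11).cyc card_m23 7).cyc card_m23 5).cons Nat.prime_three m23_3_nd).cons
    Nat.prime_two m23_2_nd

theorem card_top24 : Nat.card (⊤ : Subgroup M24) = 244823040 := Subgroup.card_top.trans card_M24

theorem ndL24 : NdL (⊤ : Subgroup M24) [(2, 0), (3, 0), (5, 0), (7, 0), (11, 0), (23, 0)] :=
  (((((NdL.nil.cyc card_top24 23).cyc card_top24 11).cyc card_top24 7).cyc card_top24 5).cons Nat.prime_three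
    m24_3_nd).cons Nat.prime_two m24_2_nd

theorem squareDodecad_eq : Spor.squareDodecad = G.toF 340831 := by decide +kernel

/-- The groups of the statements and those of the library. -/
def e23 : m23 ≃* Spor.M23 := subEquiv inf_le_left fun x => ⟨fun h => ⟨x.2, h⟩, fun h => h.2⟩
/-- The groups of the statements and those of the library. -/
def e22 : m22 ≃* Spor.M22 :=
  subEquiv (inf_le_left.trans inf_le_left) fun x => ⟨fun h => ⟨⟨x.2, h.1⟩, h.2⟩, fun h => ⟨h.1.2, h.2⟩⟩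
/-- The groups of the statements and those of the library. -/
def e12 : m12 ≃* Spor.M12 := subEquiv inf_le_left fun x => by
  rw [Spor.M12, squareDodecad_eq]; exact ⟨fun h => ⟨x.2, h⟩, fun h => h.2⟩
/-- The groups of the statements and those of the library. -/
def e11 : m11 ≃* Spor.M11 := subEquiv (inf_le_left.trans inf_le_left) fun x => by
  rw [Spor.M11, Spor.M12, squareDodecad_eq]; exact ⟨fun h => ⟨⟨x.2, h.1⟩, h.2⟩, fun h => ⟨h.1.2, h.2⟩⟩

end Cfsg.Lib.Mult.Mathieu
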