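import Cfsg.Agent.Lib.Mult.Fi24P2
import Cfsg.Agent.Lib.Mult.Fi24P3

/-! # The Schur multiplier of `Fi₂₄′`: the upper bound (generated) -/

set_option autoImplicit false
set_option maxRecDepth 100000
set_option maxHeartbeats 0
set_option Elab.async false

namespace Cfsg.Lib.Mult.Fi24

open Cfsg.Lib.Calc Cfsg.Lib.Calc.Fi24

attribute [local instance] act

noncomputable def c5 : Cert where
  p := 5
  n := (nat_lit 2)
  q := (nat_lit 5)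
  D := (nat_lit 5)
  W := (nat_lit 20)
  tab := (nat_lit 0x20500205000000010500000)
  L := (nat_lit 2)
  ytab := (nat_lit 0x8420f002054210f00105)
  gtab := (nat_lit 0)
  w := (nat_lit 18)
  F := (nat_lit 25)
  c := (nat_lit 5)
  Btab := (nat_lit 67617)
  wM := (nat_lit 5)
  Mtab := (nat_lit 0x2000400)
  rels := [.b (nat_lit 0) (nat_lit 2) (nat_lit 1) (nat_lit 2) (nat_lit 256) (nat_lit 34) (nat_lit 0x2108842)]
  a1 := (nat_lit 4)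
  o1 := (nat_lit 1)
  r1 := (nat_lit 0)
  a2 := (nat_lit 4)
  o2 := (nat_lit 1)
  r2 := (nat_lit 0)
  rows := [(nat_lit 0), (nat_lit 0), (nat_lit 0), (nat_lit 0),
    (nat_lit 3072), (nat_lit 0)]

noncomputable def c5_low : List (ℕ × List ℕ) :=
  [((nat_lit 0), [(nat_lit 0), (nat_lit 2), (nat_lit 1), (nat_lit 66), (nat_lit 65)]),
    ((nat_lit 1), [(nat_lit 0), (nat_lit 2113), (nat_lit 0x84208421), (nat_lit 0x4210821), (nat_lit 66593)])]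

/-- The elements. -/
def c5_ws : List (List ℕ) := [[9, 3, 8, 4, 3, 8, 4, 9, 5, 4, 3, 8, 6, 5, 4, 3, 8, 4, 5, 9, 7, 6, 5, 4, 3, 8, 4, 5, 6, 7, 10, 7, 6, 5, 4, 3, 8, 4, 5, 6, 7, 9],
    [4, 3, 5, 4, 3, 8, 6, 5, 4, 3, 8, 4, 5, 6, 9, 8, 4, 3, 5, 4, 8, 7, 6, 5, 4, 3, 8, 4, 5, 6, 7, 9, 8, 4, 3, 5, 4, 6, 5, 8, 4, 3, 10, 7, 6, 5, 4, 3, 8, 4, 5, 9, 8, 4, 3, 5, 4, 6, 5, 7, 8, 10],
    [11, 4, 3, 8, 6, 5, 4, 8, 7, 6, 5, 4, 3, 8, 4, 5, 6, 9, 8, 4, 10, 7, 6, 5, 4, 3, 8, 4, 5, 6, 7, 9, 8, 4, 3, 5, 4, 6, 5, 8, 4, 3, 10, 7, 6, 5, 4, 9, 8, 4, 3, 5, 6, 7, 10, 12]]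

theorem c5_run : c5.runOK2 = true := by decide +kernel

theorem c5_r_0 : allFrom (nat_lit 0) (nat_lit 3) (c5.rowOK (apf ptab.s (nat_lit 11) (tw1 ptab (nat_lit 16) ([] :: c5_ws))) bs) = true := by decide +kernel

theorem c5_f_0 : allFrom (nat_lit 0) (nat_lit 2) (c5.fusOK (apf ptab.s (nat_lit 11) (tw1 ptab (nat_lit 16) ([] :: c5_ws))) bs (3 + 1)) = true := by decide +kernel

theorem c5_nd : Nd sgn.ker (5 ^ 1) :=
  (pm c5_ws 3).ndD (C := c5) (b' := 2) (s0' := 771754443) (l := c5_low) (mem (by decide +kernel))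
    Nat.prime_five card_ker (by decide +kernel) c5_run
    (fun i hi => (of_allFrom_append of_lt_zero c5_r_0) i hi)
    (fun i hi => (of_allFrom_append of_lt_zero c5_f_0) i hi)
    (by decide +kernel)

noncomputable def c7 : Cert where
  p := 7
  n := (nat_lit 3)
  q := (nat_lit 7)
  D := (nat_lit 7)
  W := (nat_lit 65)
  tab := (nat_lit 0x305000000000000018280000000000000c140000000000000000000000000000620a000000000000010280000000000000000000000000000020a0000000000000000)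
  L := (nat_lit 3)
  ytab := (nat_lit 0x318c6280000000000000305c63108420842109e00000000000000814000000000000020a0000000000000105)
  gtab := (nat_lit 0)
  w := (nat_lit 23)
  F := (nat_lit 89)
  c := (nat_lit 6)
  Btab := (nat_lit 0x4208422)
  wM := (nat_lit 6)
  Mtab := (nat_lit 0xa81000001000000)
  rels := [.b (nat_lit 0) (nat_lit 2) (nat_lit 258) (nat_lit 2) (nat_lit 513) (nat_lit 67) (nat_lit 0x10842110842), .a (nat_lit 0x4210842) (nat_lit 2) (nat_lit 1) (nat_lit 1),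
    .b (nat_lit 0) (nat_lit 2) (nat_lit 2) (nat_lit 2) (nat_lit 512) (nat_lit 35) (nat_lit 0x118c63)]
  a1 := (nat_lit 7)
  o1 := (nat_lit 1)
  r1 := (nat_lit 0)
  a2 := (nat_lit 7)
  o2 := (nat_lit 1)
  r2 := (nat_lit 0)
  rows := [(nat_lit 0), (nat_lit 0), (nat_lit 0), (nat_lit 0),
    (nat_lit 0), (nat_lit 0), (nat_lit 0), (nat_lit 65536),
    (nat_lit 0xd02c000), (nat_lit 0x15c07000)]

noncomputable def c7_low : List (ℕ × List ℕ) :=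
  [((nat_lit 0), [(nat_lit 0), (nat_lit 0x6318421), (nat_lit 0x308421), (nat_lit 0x310821), (nat_lit 97), (nat_lit 0x6310842), (nat_lit 67617), (nat_lit 0x6310821), (nat_lit 0x210421), (nat_lit 0xc6308421), (nat_lit 0x318841), (nat_lit 66), (nat_lit 2), (nat_lit 0xc6318c42), (nat_lit 99361), (nat_lit 100417), (nat_lit 0x6210421), (nat_lit 3), (nat_lit 0xc6108421), (nat_lit 0x18c6108421), (nat_lit 3137), (nat_lit 0x318c21), (nat_lit 65), (nat_lit 3105), (nat_lit 0x6310841), (nat_lit 0x18c6318c42), (nat_lit 67650), (nat_lit 2113), (nat_lit 0x6318c42), (nat_lit 33825), (nat_lit 101473), (nat_lit 3169), (nat_lit 0xc6210421), (nat_lit 3170), (nat_lit 0x318c42), (nat_lit 3138), (nat_lit 100385), (nat_lit 98), (nat_lit 1), (nat_lit 0x6308421), (nat_lit 0x108421), (nat_lit 101409), (nat_lit 99), (nat_lit 101442), (nat_lit 0x4210842), (nat_lit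 3171), (nat_lit 33), (nat_lit 1057), (nat_lit 2081)]),
    ((nat_lit 1), [(nat_lit 0), (nat_lit 0x6318841), (nat_lit 0x1084108421), (nat_lit 0x18c6208421), (nat_lit 0xc4210821), (nat_lit 0x318c63188421082108421), (nat_lit 0x621084210421)])]

/-- The elements. -/
def c7_ws : List (List ℕ) := [[11, 1, 2, 1, 4, 5, 4, 3, 2, 8, 4, 3, 5, 9, 8, 4, 3, 2, 1, 6, 5, 4, 3, 2, 1, 8, 4, 3, 2, 5, 4, 3, 6, 5, 9, 8, 7, 10, 7, 6, 5, 4, 3, 2, 1, 8, 4, 3, 2, 5, 4, 6, 9, 8, 4, 3, 2, 5, 4, 3, 6, 5, 4, 7, 8, 4, 3, 9, 8, 12, 1, 2, 3, 4, 5, 6, 7, 8, 4, 3, 2, 1, 5, 4, 6, 9, 8, 4, 3, 2, 5, 4, 3, 8, 9, 10, 7, 6, 5, 4, 3, 2, 8, 4, 11, 1, 5, 6, 5, 4, 3, 7, 12, 1, 2, 11],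
    [1, 3, 2, 4, 3, 2, 1, 8, 4, 9, 8, 5, 4, 3, 6, 5, 4, 3, 8, 4, 7, 6, 5, 4, 3, 2, 1, 8, 4, 3, 2, 5, 4, 6, 9, 8, 4, 3, 2, 5, 4, 3, 6, 5, 7, 6, 8, 4, 3, 2, 5, 4, 3, 6, 9, 10, 7, 6, 5, 4, 3, 2, 1, 8, 4, 3, 5, 4, 6, 5, 7, 8, 9, 8, 4, 3, 12, 1, 2, 3, 4, 5, 6, 7, 8, 4, 3, 2, 1, 5, 6, 9, 8, 4, 3, 2, 1, 5, 4, 3, 8, 4, 5, 6, 9, 8, 10, 7, 12, 1, 4, 3, 2, 5, 4, 6, 5, 11, 12, 1],
    [11, 9, 3, 8, 4, 3, 2, 8, 4, 9, 5, 4, 3, 2, 1, 8, 4, 3, 2, 5, 4, 3, 9, 8, 4, 3, 2, 1, 5, 6, 5, 4, 3, 2, 8, 4, 3, 5, 9, 8, 4, 7, 6, 5, 4, 3, 2, 1, 8, 4, 3, 2, 5, 4, 6, 5, 7, 8, 9, 8, 4, 3, 2, 5, 4, 6, 5, 7, 6, 8, 4, 3, 9, 10, 7, 6, 5, 4, 3, 8, 9, 12, 1, 2, 3, 4, 5, 6, 7, 8, 4, 3, 2, 1, 5, 4, 6, 5, 9, 8, 4, 3, 2, 5, 4, 3, 6, 5, 7, 10, 7, 6, 5, 4, 3, 8, 9, 12, 1, 4, 5, 11, 12, 1],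
    [11, 9, 8, 4, 3, 8, 9, 5, 4, 3, 2, 1, 8, 4, 3, 2, 5, 9, 8, 4, 3, 2, 6, 5, 4, 3, 2, 8, 4, 3, 5, 6, 9, 8, 4, 5, 7, 6, 5, 4, 3, 2, 1, 8, 4, 3, 5, 4, 6, 5, 8, 9, 8, 4, 3, 5, 4, 6, 7, 10, 7, 6, 5, 4, 3, 2, 8, 4, 5, 6, 9, 8, 4, 3, 2, 5, 4, 12, 1, 2, 3, 4, 5, 6, 7, 8, 4, 3, 2, 1, 5, 4, 6, 5, 9, 8, 4, 3, 2, 1, 5, 4, 3, 6, 5, 4, 8, 4, 3, 2, 5, 9, 8, 4, 10, 7, 6, 5, 4, 1, 3, 2, 4, 5, 7, 6, 5, 4, 12, 1]]

theorem c7_run : c7.runOK2 = true := by decide +kernel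

theorem c7_r_0 : allFrom (nat_lit 0) (nat_lit 4) (c7.rowOK (apf ptab.s (nat_lit 11) (tw1 ptab (nat_lit 16) ([] :: c7_ws))) bs) = true := by decide +kernel

theorem c7_f_0 : allFrom (nat_lit 0) (nat_lit 3) (c7.fusOK (apf ptab.s (nat_lit 11) (tw1 ptab (nat_lit 16) ([] :: c7_ws))) bs (4 + 1)) = true := by decide +kernel

theorem c7_nd : Nd sgn.ker (7 ^ 1) :=
  (pm c7_ws 4).ndD (C := c7) (b' := 2) (s0' := 11109) (l := c7_low) (mem (by decide +kernel))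
    (by norm_num : Nat.Prime 7) card_ker (by decide +kernel) c7_run
    (fun i hi => (of_allFrom_append of_lt_zero c7_r_0) i hi)
    (fun i hi => (of_allFrom_append of_lt_zero c7_f_0) i hi)
    (by decide +kernel)

theorem ndL : NdL sgn.ker [(2, 0), (3, 1), (5, 0), (7, 0), (11, 0), (13, 0), (17, 0), (23, 0), (29, 0)] :=
  ((((((((NdL.nil.cyc card_ker 29).cyc card_ker 23).cyc card_ker 17).cyc card_ker 13).cyc card_ker 11).cons (by norm_num : Nat.Prime 7) c7_nd).cons Nat.prime_five c5_nd).cons Nat.prime_three c3_nd).cons Nat.prime_two c2_nd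

end Cfsg.Lib.Mult.Fi24
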