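import Cfsg.Agent.Lib.Mult.Fam
import Cfsg.Prelude.Def_ChevWords

/-!
# Linear models of groups generated by words in root elements
-/

set_option autoImplicit false

namespace Cfsg.Lib.Mult

open Cfsg.Lib.Calc Cfsg.Lie Matrix

variable {ι K : Type} [Fintype ι] [DecidableEq ι] [Field K] {P : FP} {n r : ℕ} {β : ℕ → K} {ix : ℕ → ι}

theorem Bas.tor (B : Bas P n r ix β) (j : ℕ) : P.p • bsv r ix β j = 0 := funext fun i => by
  rw [Pi.smul_apply, ← one_mul (bsv r ix β j i), ← smul_mul_assoc, B.char, zero_mul, Pi.zero_apply]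

theorem Bas.rm (B : Bas P n r ix β) {A : Matrix ι ι K} {C : ℕ} (h : Cod P n r ix β A C) : P.Rm (bsv r ix β) A C :=
  ⟨.of h.1, fun k hk => funext fun i => by
    obtain ⟨a, ha, rfl⟩ := B.surj i
    change (A *ᵥ _) _ = _
    rw [FP.row, B.sum_apply (fun j => get P.w C (P.d * k + j)) ha, ← h.2 a ha k hk, bsv, mulVec_single]
    rfl⟩

theorem Bas.eq_one (B : Bas P n r ix β) {A : Matrix ι ι K} (h : ∀ k < P.d, A • bsv r ix β k = bsv r ix β k) : A = 1 := by
  ext i j
  obtain ⟨a, ha, rfl⟩ := B.surj j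
  have := congrFun (h (r * a) (B.dim ▸ Nat.mul_lt_mul_of_pos_left ha B.pos)) i
  change (A *ᵥ _) i = _ at this
  rw [bsv, Nat.mul_div_cancel_left _ B.pos, Nat.mul_mod_right, B.one, mulVec_single_one] at this
  rw [one_apply]
  exact this.trans (Pi.single_apply _ _ _)

theorem Bas.la (B : Bas P n r ix β) : LA (GL ι K) P (bsv r ix β) := by
  refine ⟨B.ok, B.tor, fun a b ha hb e j hj => ?_, fun g hg => Units.ext (B.eq_one hg)⟩
  have h1 : j / r < n := Nat.div_lt_of_lt_mul (B.dim ▸ hj)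
  have h2 (t : Fin r) : r * (j / r) + t < P.d := by
    rw [B.dim]; exact (Nat.add_lt_add_left t.2 _).trans_le (Nat.mul_le_mul_left r h1)
  have := congrFun e (ix (j / r))
  rw [B.sum_apply a h1, B.sum_apply b h1, Finset.sum_range, Finset.sum_range] at this
  have := congrArg Fin.val (congrFun (B.ind (fun t => ⟨_, ha _ (h2 t)⟩) (fun t => ⟨_, hb _ (h2 t)⟩) this)
    ⟨j % r, Nat.mod_lt _ B.pos⟩)
  simpa only [Nat.div_add_mod] using this

/-- The code of a product. -/
noncomputable def FP.prod (P : FP) (l : List ℕ) : ℕ := l.foldr (fun C s => P.app P.d C s) P.one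

theorem Bas.rm_word (D : ChevalleyDatum) {ix : ℕ → D.Idx} (B : Bas P n r ix β) {w : List ((ℕ × K) × ℕ)}
    (h : ∀ x ∈ w, Cod P n r ix β (D.x K x.1.1 x.1.2) x.2) :
    P.Rm (bsv r ix β) (D.wordMat K (w.map Prod.fst)) (P.prod (w.map Prod.snd)) := by
  induction w with
  | nil => exact ⟨FP.val_one B.ok, fun k hk => (one_smul _ _).trans (FP.row_one B.ok hk).symm⟩
  | cons x w ih =>
    exact (B.rm (h x List.mem_cons_self)).mul B.ok B.tor (ih fun y hy => h y (List.mem_cons_of_mem _ hy))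

/-- The model of a group generated by words; the listed generators are involutions. -/
theorem Bas.gen (D : ChevalleyDatum) {ix : ℕ → D.Idx} (B : Bas P n r ix β) {S : Set (List (ℕ × K))}
    {l : List (List ((ℕ × K) × ℕ) × ℕ)} (hS : ∀ x ∈ l, x.1.map Prod.fst ∈ S)
    (h : ∀ x ∈ l, ∀ y ∈ x.1, Cod P n r ix β (D.x K y.1.1 y.1.2) y.2)
    (h' : ∀ x ∈ l, P.prod (x.1.map Prod.snd) = x.2 ∧ P.app P.d x.2 x.2 = P.one) :
    LX (D.genSubgroup K S) (l.map Prod.snd).length P (nth (P.one :: l.map Prod.snd)) := by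
  refine ⟨D.Idx → K, _, _, bsv r ix β, (B.la.subgroup _).lm fun C hC => ?_⟩
  obtain ⟨x, hx, rfl⟩ := List.mem_map.1 hC
  have e := (h' x hx).1 ▸ B.rm_word D (h x hx)
  have e2 := (h' x hx).2 ▸ e.mul B.ok B.tor e
  exact ⟨⟨unitOf _ _ (B.eq_one fun k hk => (e2.2 k hk).trans (FP.row_one B.ok hk)),
    Subgroup.subset_closure ⟨_, hS x hx, rfl⟩⟩, e⟩

end Cfsg.Lib.Mult
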