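import Cfsg.Agent.Lib.Mult.Word
import Cfsg.Agent.Lib.Calc.He

/-! # Upper bounds for the Schur multiplier of `He` (generated) -/

set_option autoImplicit false
set_option maxRecDepth 100000

namespace Cfsg.Lib.Mult.He

open Cfsg.Lib.Calc Cfsg.Lib.Calc.He

attribute [local instance] act

theorem pm : PM gam 7 (fun i => blt i 2058) 12 (finPt 2058) (fun l => get2 12 (net.code 2058 12 l)) 5 563568512671744 :=
  model.pm _ _ _ _ (by decide +kernel)

noncomputable def c2 : Cert where
  p := 2
  n := (nat_lit 10)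
  q := (nat_lit 2)
  D := (nat_lit 2)
  W := (nat_lit 32)
  tab := (nat_lit 0xa0500000a0500000a0500000a0500000a0500000a0500000a0500000a0500000a0500000a0500000000000009050000090500000905000009050001490a000009050001490a0000090500000905000000000000080500000805000008050001480a0001480a00000805000008050000080500000000000007050001470a0001470a000007050001470a05250714000007050000000000000605052506140001260a0001060a0000060500000605000000000001050a0001450a0000050500000505000005050029070f0000e40a0029040f0000c40a00000405000000000001430aa4a0a31900000305000000000000a20a00000205000000000000010500000000)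
  L := (nat_lit 20)
  ytab := (nat_lit 0x29280f00000a050025060f000008050020e60f000007050001060a000006050029210f000005050024e40f00000405049862140000620a0001480a00000a0500000a05000008050001070a000006050028a20f00000505051cc5140000830a0001450a0000020500000a0500000a050020620f000009050001250a000008050014620f00000705051ca3140000050500000305000003050000050500000205)
  gtab := (nat_lit 0x202020202020201010101010100000000000000)
  w := (nat_lit 17)
  F := (nat_lit 43)
  c := (nat_lit 2)
  Btab := (nat_lit 0x2106310821190440904308c22)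
  wM := (nat_lit 2)
  Mtab := (nat_lit 0x200020a0022000800000800000240f0010000040000100000000)
  rels := [.b (nat_lit 2) (nat_lit 2) (nat_lit 3343) (nat_lit 3) (nat_lit 0x130f0d) (nat_lit 68778) (nat_lit 34918), .b (nat_lit 2) (nat_lit 2) (nat_lit 3346) (nat_lit 3) (nat_lit 0x13120d) (nat_lit 68874) (nat_lit 68906),
    .b (nat_lit 2) (nat_lit 2) (nat_lit 3602) (nat_lit 3) (nat_lit 0x13120e) (nat_lit 4362) (nat_lit 0x431d2a), .a (nat_lit 4) (nat_lit 4) (nat_lit 1) (nat_lit 1257),
    .b (nat_lit 1) (nat_lit 2) (nat_lit 1800) (nat_lit 3) (nat_lit 722951) (nat_lit 68744) (nat_lit 6378), .a (nat_lit 4) (nat_lit 2) (nat_lit 1) (nat_lit 0x22214ca),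
    .b (nat_lit 2) (nat_lit 2) (nat_lit 3603) (nat_lit 2) (nat_lit 4878) (nat_lit 138) (nat_lit 138506), .b (nat_lit 1) (nat_lit 2) (nat_lit 2314) (nat_lit 2) (nat_lit 2569) (nat_lit 166) (nat_lit 0x229d0a),
    .b (nat_lit 2) (nat_lit 2) (nat_lit 4370) (nat_lit 2) (nat_lit 4625) (nat_lit 232) (nat_lit 233), .b (nat_lit 0) (nat_lit 2) (nat_lit 772) (nat_lit 2) (nat_lit 1027) (nat_lit 232) (nat_lit 2153),
    .a (nat_lit 4) (nat_lit 4) (nat_lit 3) (nat_lit 3304), .b (nat_lit 2) (nat_lit 2) (nat_lit 3856) (nat_lit 2) (nat_lit 4111) (nat_lit 166) (nat_lit 0x13212a),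
    .b (nat_lit 1) (nat_lit 2) (nat_lit 1802) (nat_lit 3) (nat_lit 723463) (nat_lit 2248) (nat_lit 5352), .b (nat_lit 0) (nat_lit 2) (nat_lit 2) (nat_lit 2) (nat_lit 512) (nat_lit 69) (nat_lit 103),
    .b (nat_lit 0) (nat_lit 2) (nat_lit 5) (nat_lit 3) (nat_lit 394496) (nat_lit 2346) (nat_lit 68776), .a (nat_lit 5) (nat_lit 4) (nat_lit 4) (nat_lit 171274),
    .b (nat_lit 0) (nat_lit 2) (nat_lit 259) (nat_lit 2) (nat_lit 769) (nat_lit 103) (nat_lit 2218), .b (nat_lit 0) (nat_lit 2) (nat_lit 3) (nat_lit 3) (nat_lit 393984) (nat_lit 2282) (nat_lit 67),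
    .a (nat_lit 7) (nat_lit 1) (nat_lit 1) (nat_lit 7), .a (nat_lit 9) (nat_lit 4) (nat_lit 1) (nat_lit 0x12192a),
    .a (nat_lit 9) (nat_lit 2) (nat_lit 1) (nat_lit 0x11152a), .a (nat_lit 6) (nat_lit 2) (nat_lit 1) (nat_lit 0x1114c8),
    .b (nat_lit 0) (nat_lit 2) (nat_lit 260) (nat_lit 3) (nat_lit 394241) (nat_lit 3338) (nat_lit 103722), .a (nat_lit 9) (nat_lit 4) (nat_lit 4) (nat_lit 237866),
    .b (nat_lit 1) (nat_lit 2) (nat_lit 2572) (nat_lit 2) (nat_lit 3082) (nat_lit 202) (nat_lit 234), .a (nat_lit 7) (nat_lit 4) (nat_lit 4) (nat_lit 266),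
    .a (nat_lit 4) (nat_lit 4) (nat_lit 4) (nat_lit 138506), .a (nat_lit 7) (nat_lit 6) (nat_lit 3) (nat_lit 104681),
    .a (nat_lit 10) (nat_lit 4) (nat_lit 1) (nat_lit 37066), .a (nat_lit 8) (nat_lit 2) (nat_lit 1) (nat_lit 34984),
    .b (nat_lit 0) (nat_lit 2) (nat_lit 1030) (nat_lit 2) (nat_lit 1540) (nat_lit 266) (nat_lit 5418), .b (nat_lit 0) (nat_lit 2) (nat_lit 1) (nat_lit 3) (nat_lit 393472) (nat_lit 2154) (nat_lit 101),
    .a (nat_lit 4) (nat_lit 2) (nat_lit 2) (nat_lit 4), .b (nat_lit 1) (nat_lit 2) (nat_lit 1803) (nat_lit 2) (nat_lit 2823) (nat_lit 72) (nat_lit 5),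
    .b (nat_lit 0) (nat_lit 2) (nat_lit 4) (nat_lit 2) (nat_lit 1024) (nat_lit 72) (nat_lit 9), .a (nat_lit 9) (nat_lit 9) (nat_lit 4) (nat_lit 4),
    .a (nat_lit 5) (nat_lit 5) (nat_lit 4) (nat_lit 4), .a (nat_lit 8) (nat_lit 3) (nat_lit 3) (nat_lit 8),
    .a (nat_lit 8) (nat_lit 8) (nat_lit 3) (nat_lit 3), .a (nat_lit 6) (nat_lit 3) (nat_lit 3) (nat_lit 6),
    .a (nat_lit 6) (nat_lit 6) (nat_lit 3) (nat_lit 3), .a (nat_lit 5) (nat_lit 5) (nat_lit 3) (nat_lit 3),
    .a (nat_lit 4) (nat_lit 3) (nat_lit 3) (nat_lit 4), .a (nat_lit 9) (nat_lit 2) (nat_lit 2) (nat_lit 9),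
    .a (nat_lit 9) (nat_lit 9) (nat_lit 2) (nat_lit 2), .a (nat_lit 7) (nat_lit 7) (nat_lit 2) (nat_lit 2),
    .a (nat_lit 6) (nat_lit 2) (nat_lit 2) (nat_lit 6), .a (nat_lit 6) (nat_lit 6) (nat_lit 2) (nat_lit 2),
    .a (nat_lit 3) (nat_lit 2) (nat_lit 2) (nat_lit 3), .a (nat_lit 3) (nat_lit 3) (nat_lit 2) (nat_lit 2),
    .a (nat_lit 4) (nat_lit 1) (nat_lit 1) (nat_lit 4), .a (nat_lit 2) (nat_lit 1) (nat_lit 1) (nat_lit 2),
    .a (nat_lit 2) (nat_lit 2) (nat_lit 1) (nat_lit 1)]
  a1 := (nat_lit 24)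
  o1 := (nat_lit 1)
  r1 := (nat_lit 0)
  a2 := (nat_lit 24)
  o2 := (nat_lit 1)
  r2 := (nat_lit 0)
  rows := [(nat_lit 0), (nat_lit 0), (nat_lit 0), (nat_lit 0),
    (nat_lit 0), (nat_lit 0), (nat_lit 0), (nat_lit 0),
    (nat_lit 0), (nat_lit 0), (nat_lit 0), (nat_lit 0),
    (nat_lit 0), (nat_lit 0), (nat_lit 0), (nat_lit 0),
    (nat_lit 0x70de8032d2f87360f543450), (nat_lit 0x70de8032d2f87360f543400), (nat_lit 0x60988723a2fe02ffa2e2000), (nat_lit 0x3cc41d84e40e1f8d1554872000),
    (nat_lit 0xd07680127258d1e05fc1c30), (nat_lit 0), (nat_lit 0x2880e288f4d6d1117800183800), (nat_lit 0x104c378cd206251429542f3c00),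
    (nat_lit 0x3e9aa2728963b4934a37520a7230), (nat_lit 0x31a3f8694d18c6593df25cf85a30), (nat_lit 0x846058cf83a2f203c528f0000), (nat_lit 0x288062885c7e7333d800381900),
    (nat_lit 0), (nat_lit 0x31e994a4c1f07efd340004060f30), (nat_lit 0x208d2f64010f25d51901ff0800), (nat_lit 0xe0b98d21a25402f5e240c00),
    (nat_lit 0x90aa8d32a3a4d2a51d41c00), (nat_lit 0x208b22e0d3150af53e5fdd2800), (nat_lit 0x180880d2de2a85c908e21000), (nat_lit 0x609b8723a2fc025f72c0400),
    (nat_lit 0), (nat_lit 0x20c62d84d4120fbe09568f3c00), (nat_lit 0x20802808002800bc0504011400), (nat_lit 0x8020071201a6700f87a1800),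
    (nat_lit 0x90aa8d3172a6d2251d63400), (nat_lit 0x288028082828209e1d04003c00), (nat_lit 0x20802808002800bc050400d400), (nat_lit 0xa0a88a03a1a0029a20c0800),
    (nat_lit 0x80200a0200abc0da40a1400), (nat_lit 0), (nat_lit 0xaa2e4a705bcc6ed30e1c8548600), (nat_lit 0x80506682b072f692d01571400),
    (nat_lit 0xa0880d20a1aa5005ae83000), (nat_lit 0x10102287379a04520f1c61c00), (nat_lit 0x20802808002800bf0504011400), (nat_lit 0xa0880d20a1aa5000ae83000),
    (nat_lit 0x40000000000000), (nat_lit 0x20a0880a07cda2803a2182000), (nat_lit 0x28200aa882f022182f2a9a68b020), (nat_lit 0),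
    (nat_lit 0x100000270a08022800), (nat_lit 0x20882a08a0080a380fa8092400), (nat_lit 0x20882a08a0080a380fa8091000), (nat_lit 0x200000014102009020a2000),
    (nat_lit 0x20802808002800b80504011400), (nat_lit 0x30000000000000), (nat_lit 0x20822080a20200922daaaf1400), (nat_lit 0x20882a0802082ab20e08a93400),
    (nat_lit 0x20822288a20200ba05aa933c00), (nat_lit 0x20882a08a0080a1805a80b3c00)]

noncomputable def c2_low : List (ℕ × List ℕ) :=
  [((nat_lit 0), [(nat_lit 0), (nat_lit 2)]),
    ((nat_lit 1), [(nat_lit 0), (nat_lit 229), (nat_lit 130), (nat_lit 7298)]),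
    ((nat_lit 2), [(nat_lit 0), (nat_lit 259)]),
    ((nat_lit 3), [(nat_lit 0), (nat_lit 8), (nat_lit 294), (nat_lit 10)]),
    ((nat_lit 4), [(nat_lit 0), (nat_lit 301217), (nat_lit 261), (nat_lit 321)]),
    ((nat_lit 5), [(nat_lit 0), (nat_lit 329)]),
    ((nat_lit 6), [(nat_lit 0), (nat_lit 262)])]

noncomputable def c2_ws : List ℕ := [(nat_lit 0),
    (nat_lit 0x483214c4190e41904320c413106410ca720c87),
    (nat_lit 0xa120c8531c8310483290c520c44190c720c85),
    (nat_lit 0x10ce4298871882311c83110663906439062),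
    (nat_lit 0x144320c44198e4284c520c44188c4194e4),
    (nat_lit 0x5218e430c821906209483110a6),
    (nat_lit 0x10464188833106520c2219cc419c8331062),
    (nat_lit 0xa430c833106410ca438c4419043390620906231065),
    (nat_lit 0x2088a23906220ca4390431048311c83110a7),
    (nat_lit 0x11064298831106430c82190c520c2231064194c4),
    (nat_lit 0x290c410c872086419c24188853106429067),
    (nat_lit 0x148618883110e311883214e41988110c831188320c45),
    (nat_lit 0x28c833106410c83104833104311c832148620c41),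
    (nat_lit 0x85190c320c22190c320865310641886429062090c439065)]

theorem c2_run : c2.runOK = true := by decide +kernel

theorem c2_nd : Nd Spor.He (2 ^ 1) :=
  pm.nd (C := c2) (b' := 7) (s0' := 16143435456768172424) (ws := c2_ws) (l := c2_low) Nat.prime_two card
    (by decide +kernel) c2_run (by decide +kernel)

noncomputable def c3 : Cert where
  p := 3
  n := (nat_lit 3)
  q := (nat_lit 3)
  D := (nat_lit 3)
  W := (nat_lit 15)
  tab := (nat_lit 0x305060a0c14000620a040a00000828000)
  L := (nat_lit 4)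
  ytab := (nat_lit 0xc6140c170850105060a0c161050105)
  gtab := (nat_lit 0x1010000)
  w := (nat_lit 16)
  F := (nat_lit 16)
  c := (nat_lit 4)
  Btab := (nat_lit 0x4208422)
  wM := (nat_lit 4)
  Mtab := (nat_lit 0x6100010000)
  rels := [.b (nat_lit 1) (nat_lit 2) (nat_lit 515) (nat_lit 2) (nat_lit 770) (nat_lit 35) (nat_lit 1), .a (nat_lit 66) (nat_lit 2) (nat_lit 1) (nat_lit 1),
    .b (nat_lit 0) (nat_lit 2) (nat_lit 1) (nat_lit 2) (nat_lit 256) (nat_lit 35) (nat_lit 2115)]
  a1 := (nat_lit 8)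
  o1 := (nat_lit 1)
  r1 := (nat_lit 0)
  a2 := (nat_lit 8)
  o2 := (nat_lit 1)
  r2 := (nat_lit 0)
  rows := [(nat_lit 0), (nat_lit 0), (nat_lit 0), (nat_lit 0),
    (nat_lit 0), (nat_lit 0), (nat_lit 0), (nat_lit 524288),
    (nat_lit 263168), (nat_lit 427520)]

noncomputable def c3_low : List (ℕ × List ℕ) :=
  [((nat_lit 0), [(nat_lit 0), (nat_lit 1), (nat_lit 33)]),
    ((nat_lit 1), [(nat_lit 0), (nat_lit 3), (nat_lit 99)]),
    ((nat_lit 2), [(nat_lit 0), (nat_lit 2), (nat_lit 66)])]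

noncomputable def c3_ws : List ℕ := [(nat_lit 0),
    (nat_lit 0x10c410c8720c4119064188e4190e618886),
    (nat_lit 0x21881290c310483110e520c4439885),
    (nat_lit 0x510c83110a720c832182221c8320c45),
    (nat_lit 0xa431023214c439064308641882620c4120c8639062),
    (nat_lit 0x1984720c441988310c8620c4419cc4)]

theorem c3_run : c3.runOK = true := by decide +kernel

theorem c3_nd : Nd Spor.He (3 ^ 1) :=
  pm.nd (C := c3) (b' := 3) (s0' := 20491) (ws := c3_ws) (l := c3_low) Nat.prime_three card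
    (by decide +kernel) c3_run (by decide +kernel)

noncomputable def c5 : Cert where
  p := 5
  n := (nat_lit 2)
  q := (nat_lit 5)
  D := (nat_lit 5)
  W := (nat_lit 25)
  tab := (nat_lit 0x205000102800000000020a000000)
  L := (nat_lit 2)
  ytab := (nat_lit 0x84210a000081400020a000105)
  gtab := (nat_lit 0)
  w := (nat_lit 17)
  F := (nat_lit 14)
  c := (nat_lit 5)
  Btab := (nat_lit 67617)
  wM := (nat_lit 5)
  Mtab := (nat_lit 0x2000400)
  rels := [.b (nat_lit 0) (nat_lit 2) (nat_lit 1) (nat_lit 2) (nat_lit 256) (nat_lit 34) (nat_lit 0x110842)]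
  a1 := (nat_lit 4)
  o1 := (nat_lit 1)
  r1 := (nat_lit 0)
  a2 := (nat_lit 4)
  o2 := (nat_lit 1)
  r2 := (nat_lit 0)
  rows := [(nat_lit 0), (nat_lit 0), (nat_lit 0), (nat_lit 0),
    (nat_lit 8192), (nat_lit 0)]

noncomputable def c5_low : List (ℕ × List ℕ) :=
  [((nat_lit 0), [(nat_lit 0), (nat_lit 66), (nat_lit 2), (nat_lit 65), (nat_lit 1)]),
    ((nat_lit 1), [(nat_lit 0), (nat_lit 0x84208421), (nat_lit 0x4210821), (nat_lit 2113), (nat_lit 66593)])]

noncomputable def c5_ws : List ℕ := [(nat_lit 0),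
    (nat_lit 0x3110643906220ca4310643106410ce4188e4),
    (nat_lit 0x86190a4308641888320c4520ce418826),
    (nat_lit 0x86204a32188320ca610c8311064188a419c83104c4)]

theorem c5_run : c5.runOK = true := by decide +kernel

theorem c5_nd : Nd Spor.He (5 ^ 1) :=
  pm.nd (C := c5) (b' := 2) (s0' := 4113) (ws := c5_ws) (l := c5_low) Nat.prime_five card
    (by decide +kernel) c5_run (by decide +kernel)

noncomputable def c7 : Cert where
  p := 7
  n := (nat_lit 3)
  q := (nat_lit 7)
  D := (nat_lit 7)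
  W := (nat_lit 45)
  tab := (nat_lit 0x30500000000182800000000c14000000000000000000620a000000001028000000000000000000020a00000000000)
  L := (nat_lit 3)
  ytab := (nat_lit 0x318c628000000003050000000010280000000081718c6108425000000000105)
  gtab := (nat_lit 0)
  w := (nat_lit 22)
  F := (nat_lit 45)
  c := (nat_lit 6)
  Btab := (nat_lit 0x4208422)
  wM := (nat_lit 6)
  Mtab := (nat_lit 0xa81000001000000)
  rels := [.b (nat_lit 0) (nat_lit 2) (nat_lit 2) (nat_lit 2) (nat_lit 512) (nat_lit 35) (nat_lit 0x108423), .b (nat_lit 0) (nat_lit 2) (nat_lit 1) (nat_lit 3) (nat_lit 131328) (nat_lit 1091) (nat_lit 0x2108443),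
    .b (nat_lit 0) (nat_lit 7) (nat_lit 0x2020202020202) (nat_lit 0) (nat_lit 0) (nat_lit 0) (nat_lit 0), .b (nat_lit 0) (nat_lit 2) (nat_lit 258) (nat_lit 2) (nat_lit 513) (nat_lit 67) (nat_lit 0x218c63)]
  a1 := (nat_lit 7)
  o1 := (nat_lit 1)
  r1 := (nat_lit 0)
  a2 := (nat_lit 7)
  o2 := (nat_lit 1)
  r2 := (nat_lit 0)
  rows := [(nat_lit 0), (nat_lit 0), (nat_lit 0), (nat_lit 0),
    (nat_lit 0), (nat_lit 0), (nat_lit 0), (nat_lit 0x340000000),
    (nat_lit 65536), (nat_lit 0x38e423000)]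

noncomputable def c7_low : List (ℕ × List ℕ) :=
  [((nat_lit 0), [(nat_lit 0), (nat_lit 0x6318c63108421082108421), (nat_lit 0xc6310842), (nat_lit 0xc621084210421), (nat_lit 0x6318c6210841), (nat_lit 0x631884210821), (nat_lit 2113), (nat_lit 0x210821), (nat_lit 0x8421082108421), (nat_lit 0x18c6318821), (nat_lit 0x6318c62), (nat_lit 0x631884208421), (nat_lit 0xc4210842), (nat_lit 0xc6318821), (nat_lit 0x6208421), (nat_lit 0x18c6318c42), (nat_lit 0x6210841), (nat_lit 0x621084108421), (nat_lit 0x18c621084108421), (nat_lit 0x6210421), (nat_lit 0x318c6210842), (nat_lit 0x31084208421), (nat_lit 0x6318c6310421), (nat_lit 0x6318c421082108421), (nat_lit 0x318c6210421), (nat_lit 0x6308421), (nat_lit 0x6318c621084208421), (nat_lit 100418), (nat_lit 0x6318c4210821), (nat_lit 33), (nat_lit 0x6318c4210841), (nat_lit 0x318c631884208421), (nat_lit 0xc6318c621084108421), (nat_lit 0xc4108421), (nat_lit 0x1082108421), (nat_lit 0xc6318c4210421), (nat_lit 0x210842), (nat_lit 0x18c631884210421),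 (nat_lit 0xc6318c6210821), (nat_lit 0x18c4208421), (nat_lit 0x2108421), (nat_lit 0x318c63), (nat_lit 0x318c6310421), (nat_lit 0x31884210421), (nat_lit 2114), (nat_lit 0x18c6318c4210821), (nat_lit 0x318c621084208421), (nat_lit 0x421082108421), (nat_lit 0x6318c6108421), (nat_lit 101441), (nat_lit 0xc6318c61), (nat_lit 0xc6318c62), (nat_lit 0xc6318c421082108421), (nat_lit 0x318c631882108421), (nat_lit 0x6318c621084108421), (nat_lit 0xc4210841), (nat_lit 0x31084108421), (nat_lit 0x318c631884210841), (nat_lit 0x31084210421), (nat_lit 0x84210421), (nat_lit 0x318c4210421), (nat_lit 0xc6318c4210821), (nat_lit 100385), (nat_lit 33825), (nat_lit 0x318c6310821), (nat_lit 0x31882108421), (nat_lit 0x318c63108421082108421), (nat_lit 0x318c41), (nat_lit 0x21084208421), (nat_lit 0x631084108421), (nat_lit 101473), (nat_lit 66), (nat_lit 0x31082108421), (nat_lit 0x210841), (nat_lit 0xc6318c6210841), (nat_lit 0x18c631884210841), (nat_lit 0x18c4210842), (nat_lit 0xc621082108421), (nat_lit 0x318c63188421084108421),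 (nat_lit 0xc6318c4210842), (nat_lit 0x318c631884108421), (nat_lit 66593), (nat_lit 0x6318c61), (nat_lit 0xc6318c421084208421), (nat_lit 0x31884210821), (nat_lit 0x631882108421), (nat_lit 0x18c4210821), (nat_lit 0x4210821), (nat_lit 0x6318c4208421), (nat_lit 0xc6318841), (nat_lit 0x31884108421), (nat_lit 0xc6210842), (nat_lit 0x31884210841), (nat_lit 0x208421), (nat_lit 0x631884108421), (nat_lit 0x310421), (nat_lit 0xc6318842), (nat_lit 0x6318c6310842), (nat_lit 0xc6310821), (nat_lit 0x18c631084210421), (nat_lit 3170), (nat_lit 0x18c63188421082108421), (nat_lit 0x18c6310841), (nat_lit 0x631884210841), (nat_lit 0x1084210421), (nat_lit 0xc6210421), (nat_lit 0x18c631084208421), (nat_lit 0x18c631884108421), (nat_lit 0xc6318c6208421), (nat_lit 0xc6310841), (nat_lit 97), (nat_lit 0x6318842), (nat_lit 0x318c4210842), (nat_lit 1057), (nat_lit 0x18c6310842), (nat_lit 0x18c6318c421084108421), (nat_lit 0x18c6318c421082108421), (nat_lit 0x318c6318842), (nat_lit 0x318c6208421), (nat_lit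 0x18c631882108421), (nat_lit 3105), (nat_lit 0x18c6318c4210421), (nat_lit 0x3188421082108421), (nat_lit 0x21082108421), (nat_lit 0x318c6210841), (nat_lit 0x18c421082108421), (nat_lit 0xc6310421), (nat_lit 0x6318421), (nat_lit 2), (nat_lit 0x31084210821), (nat_lit 0x18c6210841), (nat_lit 0x421084208421), (nat_lit 0xc631884108421), (nat_lit 0x318841), (nat_lit 65), (nat_lit 0x621084210421), (nat_lit 0x84210841), (nat_lit 0xc6318c421084108421), (nat_lit 0xc631882108421), (nat_lit 67649), (nat_lit 0x6318c421084208421), (nat_lit 0xc631884210821), (nat_lit 0x18c6310421), (nat_lit 0x63188421084108421), (nat_lit 0x188421084108421), (nat_lit 0x18c4108421), (nat_lit 0x1884210841), (nat_lit 0xc63188421084108421), (nat_lit 0xc6318c21), (nat_lit 0x84108421), (nat_lit 0x421084108421), (nat_lit 0x18c6318c421084208421), (nat_lit 0x1884210821), (nat_lit 0x318c631084208421), (nat_lit 0x318c2108421), (nat_lit 0x8421084108421), (nat_lit 0x1084108421), (nat_lit 0x18c621082108421), (nat_lit 0xc421084208421),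 (nat_lit 0xc6318c621084208421), (nat_lit 0x318c62), (nat_lit 0x318842), (nat_lit 0x21084108421), (nat_lit 0x318c6318821), (nat_lit 0x318c21), (nat_lit 0x318c6308421), (nat_lit 0xc63108421082108421), (nat_lit 0x6310841), (nat_lit 0x318c6318421), (nat_lit 0x18c6318c21), (nat_lit 0x6310821), (nat_lit 0x18c621084208421), (nat_lit 0x631884210421), (nat_lit 0x1884210421), (nat_lit 0x318c6310842), (nat_lit 0x18c6308421), (nat_lit 0x18c631884210821), (nat_lit 0xc6108421), (nat_lit 0xc6318421), (nat_lit 0x621082108421), (nat_lit 0x4210842), (nat_lit 0xc6318c621082108421), (nat_lit 3169), (nat_lit 0x6318c6210842), (nat_lit 0xc631084210821), (nat_lit 0xc631884208421), (nat_lit 0xc6208421), (nat_lit 0xc631084108421), (nat_lit 99361), (nat_lit 0x6318c6310821), (nat_lit 0x6318c6210821), (nat_lit 0x6318c621084210421), (nat_lit 1), (nat_lit 0x318c4208421), (nat_lit 0x3108421082108421), (nat_lit 0x318c61), (nat_lit 0x6318c631084208421), (nat_lit 0x3188421084108421), (nat_lit 0x6318841), (nat_lit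 0xc6318c4108421), (nat_lit 0x4208421), (nat_lit 0x318c621082108421), (nat_lit 0xc2108421), (nat_lit 0x318c631884210421), (nat_lit 0xc621084208421), (nat_lit 0x318c42), (nat_lit 0x84210821), (nat_lit 2081), (nat_lit 0x318821), (nat_lit 0x18c631884208421), (nat_lit 0xc631884210841), (nat_lit 0xc4210821), (nat_lit 0x318c6210821), (nat_lit 0xc6318c42), (nat_lit 100417), (nat_lit 0x188421082108421), (nat_lit 0x63108421082108421), (nat_lit 0x6318c2108421), (nat_lit 0x318c6310841), (nat_lit 0x6318c631084210821), (nat_lit 0xc6210841), (nat_lit 0x21084210421), (nat_lit 0x6318c21), (nat_lit 0xc6318c6210842), (nat_lit 0xc6318c41), (nat_lit 99), (nat_lit 0x318c6318841), (nat_lit 0x318c421084108421), (nat_lit 0x18c631084210821), (nat_lit 0xc631084208421), (nat_lit 0xc6318c4208421), (nat_lit 0x318c631084210821), (nat_lit 0x318c63188421082108421), (nat_lit 0x6318c6308421), (nat_lit 0x6318c41), (nat_lit 0xc63188421082108421), (nat_lit 0x631084208421), (nat_lit 0x6318c421084108421), (nat_lit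 0x318c6108421), (nat_lit 0x1084210821), (nat_lit 0x18c6108421), (nat_lit 0x631084210821), (nat_lit 0x318c4108421), (nat_lit 0x310821), (nat_lit 3171), (nat_lit 0x318c4210821), (nat_lit 0x318c4210841), (nat_lit 0x310841), (nat_lit 0x18c6210421), (nat_lit 0x18c63188421084108421), (nat_lit 3138), (nat_lit 0x6210842), (nat_lit 0x63188421082108421), (nat_lit 0x318c631084108421), (nat_lit 0xc6308421), (nat_lit 67617), (nat_lit 0x6318c4210842), (nat_lit 0x6318c631084108421), (nat_lit 0x308421), (nat_lit 0xc6318c6108421), (nat_lit 0x18c2108421), (nat_lit 0x6210821), (nat_lit 0x1084208421), (nat_lit 0x1882108421), (nat_lit 0x318c421082108421), (nat_lit 0x18c4210421), (nat_lit 0x4210421), (nat_lit 0x6108421), (nat_lit 0x31884208421), (nat_lit 0xc4208421), (nat_lit 0xc421084108421), (nat_lit 3137), (nat_lit 0xc621084108421), (nat_lit 67650), (nat_lit 0x6318c6310841), (nat_lit 0x18c6208421), (nat_lit 0x6318c6208421), (nat_lit 0x6318c4108421), (nat_lit 0x6318c631084210421), (nat_lit 0xc4210421),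 (nat_lit 0x18c63108421082108421), (nat_lit 0x621084208421), (nat_lit 0x18c6318421), (nat_lit 101474), (nat_lit 0x18c421084108421), (nat_lit 0x82108421), (nat_lit 0x6318c4210421), (nat_lit 98), (nat_lit 0x18c6318841), (nat_lit 0x318421), (nat_lit 0x318c631082108421), (nat_lit 0x18c6318c4210842), (nat_lit 0xc6318c4210841), (nat_lit 0x6318821), (nat_lit 0x6318c6210421), (nat_lit 0x6318c42), (nat_lit 0x318c621084210421), (nat_lit 0x18c6318c4208421), (nat_lit 0xc6318c2108421), (nat_lit 0x1884108421), (nat_lit 0x108421082108421), (nat_lit 101475), (nat_lit 0x18c631082108421), (nat_lit 0x108421), (nat_lit 0xc631084210421), (nat_lit 0x210421), (nat_lit 0x18c631084108421), (nat_lit 0x18c6310821), (nat_lit 0xc6318c621084210421), (nat_lit 0xc421082108421), (nat_lit 0x318c421084208421), (nat_lit 3), (nat_lit 0x4210841), (nat_lit 0x18c4210841), (nat_lit 0x84208421), (nat_lit 0xc6210821), (nat_lit 0x6318c63), (nat_lit 0x6318c631082108421), (nat_lit 0x6318c621082108421), (nat_lit 0x18c6318c4108421),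 (nat_lit 0x631082108421), (nat_lit 0x310842), (nat_lit 0x631084210421), (nat_lit 0x6310421), (nat_lit 101442), (nat_lit 0x18c421084208421), (nat_lit 0x18c6318c41), (nat_lit 0xc631884210421), (nat_lit 0x6310842), (nat_lit 101409), (nat_lit 0x18c6318c4210841), (nat_lit 0x318c631884210821), (nat_lit 0xc631082108421), (nat_lit 0x4108421), (nat_lit 0x1884208421), (nat_lit 0xc6318c6210421), (nat_lit 0x18c6210821), (nat_lit 0x18c6210842), (nat_lit 0x18c6318c2108421), (nat_lit 0x318c621084108421), (nat_lit 0x318c631084210421), (nat_lit 0x18c621084210421), (nat_lit 0x18c6318842)])]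

noncomputable def c7_ws : List ℕ := [(nat_lit 0),
    (nat_lit 0xc83218821906220cc4188e520c413906231065),
    (nat_lit 0x20c8520c4720c44194e220c873106220ce6),
    (nat_lit 0xa4310662144320c441988620c831048339062),
    (nat_lit 0x10c419064290c21906209883208643988311487)]

theorem c7_run : c7.runOK = true := by decide +kernel

theorem c7_nd : Nd Spor.He (7 ^ 1) :=
  pm.nd (C := c7) (b' := 1) (s0' := 0) (ws := c7_ws) (l := c7_low) (by norm_num : Nat.Prime 7) card
    (by decide +kernel) c7_run (by decide +kernel)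

theorem ndL : NdL Spor.He [(2, 0), (3, 0), (5, 0), (7, 0), (17, 0)] :=
  ((((NdL.nil.cyc card 17).cons (by norm_num : Nat.Prime 7) c7_nd).cons Nat.prime_five c5_nd).cons Nat.prime_three c3_nd).cons Nat.prime_two c2_nd

end Cfsg.Lib.Mult.He
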