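import Cfsg.Agent.Lib.Mult.Mat2
import Cfsg.Agent.Lib.J1.Basic

/-! # The Schur multiplier of `J₁` (generated) -/

set_option autoImplicit false
set_option maxRecDepth 100000

namespace Cfsg.Lib.Mult.J1

open Cfsg.Lib.Calc Cfsg.Lib.J1 Cfsg.Spor

theorem fa : FA J1 20 cv :=
  ⟨cv_lt, F2.FV.inj, fun _ h => exists_cv h, fun g h =>
    Subgroup.mem_bot.1 (ker_eq ▸ fun x => congrArg cv (h x) : g ∈ (⊥ : Subgroup J1))⟩

theorem fm0 : ∃ el : ℕ → J1, FM el 2 20 cv (nth (F2.idM 20 :: sL)) :=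
  ⟨_, fa.fm fun C hC => let ⟨g, _, h⟩ := good_s C hC; ⟨g, h⟩⟩

noncomputable def fm_ws : List ℕ := [(nat_lit 0), (nat_lit 1), (nat_lit 2), (nat_lit 0x2108421),
    (nat_lit 67650)]

noncomputable def fm_cs : List ℕ := [F2.idM 20,
    (nat_lit 0x457d54f52cbdb6fdb73fda5eba5498fbca8f85905b75056ee2debb1d2601df511de2e286401e60d1e640287032b2362b2b8),
    (nat_lit 0x782dc7a955f9cc85266175afca5ffc642008371782eff9e74eb8e8e628e3670e2bba7c5c9e6a472c9fe90d8163213db85a18),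
    (nat_lit 0xd08b6b9c8e64424647557a45b85c3585f6c834001eb001e60d2dd2c2d70f2d7302db7e18c692e1462ec21181ea1baf81b6ad),
    (nat_lit 0x6dcf63bbf201eb1573451294f97e8a2112b9f39c513a1ebb2b8dbc62af66725ebb8835cb7fa44ce9fd57d810c212b58586b)]

theorem fm : ∃ el : ℕ → J1, FM el 4 20 cv (nth fm_cs) :=
  let ⟨_, M⟩ := fm0; ⟨_, M.words (ws := fm_ws) (by decide +kernel)⟩

noncomputable def c2 : Cert where
  p := 2
  n := (nat_lit 3)
  q := (nat_lit 2)
  D := (nat_lit 2)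
  W := (nat_lit 15)
  tab := (nat_lit 0x305060a0c140000205040a00000828000)
  L := (nat_lit 5)
  ytab := (nat_lit 0x20850305040a08141028305c41408140828105)
  gtab := (nat_lit 0x101000000)
  w := (nat_lit 11)
  F := (nat_lit 8)
  c := (nat_lit 2)
  Btab := (nat_lit 0x6310821)
  wM := (nat_lit 2)
  Mtab := (nat_lit 0x404040)
  rels := [.b (nat_lit 0) (nat_lit 2) (nat_lit 1) (nat_lit 2) (nat_lit 256) (nat_lit 34) (nat_lit 1091), .b (nat_lit 1) (nat_lit 2) (nat_lit 772) (nat_lit 2) (nat_lit 1027) (nat_lit 67) (nat_lit 1),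
    .b (nat_lit 0) (nat_lit 2) (nat_lit 2) (nat_lit 2) (nat_lit 512) (nat_lit 35) (nat_lit 34)]
  a1 := (nat_lit 7)
  o1 := (nat_lit 1)
  r1 := (nat_lit 0)
  a2 := (nat_lit 7)
  o2 := (nat_lit 1)
  r2 := (nat_lit 0)
  rows := [(nat_lit 0), (nat_lit 0), (nat_lit 0), (nat_lit 0),
    (nat_lit 816), (nat_lit 0), (nat_lit 0), (nat_lit 768),
    (nat_lit 336), (nat_lit 0)]

noncomputable def c2_low : List (ℕ × List ℕ) :=
  [((nat_lit 0), [(nat_lit 98), (nat_lit 3), (nat_lit 0), (nat_lit 2)]),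
    ((nat_lit 1), [(nat_lit 0), (nat_lit 1)])]

noncomputable def c2_fm_ws : List ℕ := [(nat_lit 0),
    (nat_lit 0x108620842208442),
    (nat_lit 0x108640902210484),
    (nat_lit 0x1204840884108821),
    (nat_lit 0x64204240884310c43),
    (nat_lit 0x3204840884110863)]

noncomputable def c2_fm_cs : List ℕ := [F2.idM 20,
    (nat_lit 0x628e31ace9115b89596007cdb3547cce8078c54d96d2a42e9e3b40613c8e108c30b9a0d08b6381c290f8a08c298bdfe93857),
    (nat_lit 0x894dc5b4dd6efcb305fab23402fe2370a708f859e256d5b12c0599949a57e02e8e37536cb9e6fed5d68f6d5d718a94c52f8b),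
    (nat_lit 0x10ce99265789733a1f78fab943c5881996a786de17e490ed2b2614703193d49e1be9f32fa9a6fed53330ec89a297d8f4e59c),
    (nat_lit 0x2a30a2ddef2b2b8b1f951c807670e28343f83400b623be26e2aa24a13c8e0ec49003f1ff20c2b2361e3986ab329fe90b61ef),
    (nat_lit 0xa36948586ba21b594c5ffdbe164a5bcc65fb1f95959600b40270c747fef79a8405b7a56fb7b2435a20d883d71290cd12810f)]

theorem c2_fm : ∃ el : ℕ → J1, FM el 5 20 cv (nth c2_fm_cs) :=
  let ⟨_, M⟩ := fm; ⟨_, M.words (ws := c2_fm_ws) (by decide +kernel)⟩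

theorem c2_run : c2.runOK = true := by decide +kernel

theorem c2_nd : Nd J1 (2 ^ 1) :=
  let ⟨_, M⟩ := c2_fm
  M.nd (C := c2) (N := 2) (vs := 558913895583) (l := c2_low) Nat.prime_two card_J1
    (by decide +kernel) c2_run (by decide +kernel)

theorem ndL : NdL J1 [(2, 0), (3, 0), (5, 0), (7, 0), (11, 0), (19, 0)] :=
  (((((NdL.nil.cyc card_J1 19).cyc card_J1 11).cyc card_J1 7).cyc card_J1 5).cyc card_J1 3).cons Nat.prime_two c2_nd

end Cfsg.Lib.Mult.J1
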