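import Cfsg.Agent.Lib.Mult.Co
import Cfsg.Agent.Lib.Mult.Cover
import Cfsg.Agent.Lib.J2.Basic

/-! # The Schur multiplier of `J₂` (generated) -/

set_option autoImplicit false
set_option maxRecDepth 100000

namespace Cfsg.Lib.Mult.J2

open Cfsg.Lib.Calc Cfsg.Lib.Leech Cfsg.Lib.J2 Cfsg.Spor

theorem fm : ∃ el : ℕ → hj, FM el 5 24 code2 (nth (F2.idM 24 :: rL)) :=
  ⟨_, (Co.fa.subgroup _).fm fun C hC => let ⟨g, h1, h2⟩ := good_r C hC; ⟨⟨g, h1⟩, h2⟩⟩

noncomputable def c2 : Cert where
  p := 2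
  n := (nat_lit 7)
  q := (nat_lit 4)
  D := (nat_lit 2)
  W := (nat_lit 26)
  tab := (nat_lit 0x7050001c140007050001c140007050001c140007050000000000605000181400e60a0001814000605000181400070500394281cc50f000141400c50a0001414000705003902800c40a0001014000405073103c00a30a0020c2800030500398281cc20f000081400e60a0000414000000)
  L := (nat_lit 4)
  ytab := (nat_lit 0x1c14000705071843c000605073103c000405c51845000610a)
  gtab := (nat_lit 0)
  w := (nat_lit 19)
  F := (nat_lit 54)
  c := (nat_lit 3)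
  Btab := (nat_lit 0x63108221104308c21)
  wM := (nat_lit 3)
  Mtab := (nat_lit 0x320000300000300000302381c03c0000e00200000)
  rels := [.b (nat_lit 0) (nat_lit 2) (nat_lit 2) (nat_lit 3) (nat_lit 197120) (nat_lit 36039) (nat_lit 5319), .b (nat_lit 0) (nat_lit 2) (nat_lit 1) (nat_lit 3) (nat_lit 196864) (nat_lit 35975) (nat_lit 0x1190a7),
    .a (nat_lit 3) (nat_lit 2) (nat_lit 1) (nat_lit 0x110c85), .b (nat_lit 0) (nat_lit 2) (nat_lit 258) (nat_lit 2) (nat_lit 513) (nat_lit 134) (nat_lit 35974),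
    .a (nat_lit 5) (nat_lit 3) (nat_lit 3) (nat_lit 4262), .a (nat_lit 3) (nat_lit 3) (nat_lit 2) (nat_lit 2183),
    .a (nat_lit 3) (nat_lit 2) (nat_lit 2) (nat_lit 3271), .a (nat_lit 3) (nat_lit 1) (nat_lit 1) (nat_lit 3271),
    .a (nat_lit 2) (nat_lit 2) (nat_lit 1) (nat_lit 1223), .a (nat_lit 5) (nat_lit 5) (nat_lit 3) (nat_lit 103),
    .a (nat_lit 3) (nat_lit 3) (nat_lit 3) (nat_lit 102599), .a (nat_lit 4) (nat_lit 4) (nat_lit 2) (nat_lit 71),
    .a (nat_lit 5) (nat_lit 5) (nat_lit 1) (nat_lit 39), .a (nat_lit 4) (nat_lit 4) (nat_lit 3) (nat_lit 103),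
    .a (nat_lit 5) (nat_lit 2) (nat_lit 2) (nat_lit 5319), .a (nat_lit 4) (nat_lit 1) (nat_lit 1) (nat_lit 4295),
    .a (nat_lit 6) (nat_lit 4) (nat_lit 4) (nat_lit 199), .a (nat_lit 6) (nat_lit 6) (nat_lit 3) (nat_lit 3),
    .a (nat_lit 5) (nat_lit 5) (nat_lit 2) (nat_lit 71), .a (nat_lit 2) (nat_lit 2) (nat_lit 2) (nat_lit 2247),
    .a (nat_lit 4) (nat_lit 4) (nat_lit 1) (nat_lit 39), .a (nat_lit 1) (nat_lit 1) (nat_lit 1) (nat_lit 1223),
    .a (nat_lit 5) (nat_lit 5) (nat_lit 5) (nat_lit 167), .a (nat_lit 4) (nat_lit 4) (nat_lit 4) (nat_lit 135)]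
  a1 := (nat_lit 28)
  o1 := (nat_lit 2)
  r1 := (nat_lit 0x907d6168ed1165)
  a2 := (nat_lit 6)
  o2 := (nat_lit 1)
  r2 := (nat_lit 0)
  rows := [(nat_lit 0), (nat_lit 0), (nat_lit 0), (nat_lit 0),
    (nat_lit 0), (nat_lit 0), (nat_lit 0), (nat_lit 0),
    (nat_lit 0), (nat_lit 0), (nat_lit 0), (nat_lit 0xc0000a001d8005100),
    (nat_lit 0), (nat_lit 0x100000e051be0040c1), (nat_lit 0x140040a05046003041), (nat_lit 0),
    (nat_lit 0x62a40082a7df1984c0), (nat_lit 0x2b21120003c9031c1c00), (nat_lit 0x1df36c0040fb88083141), (nat_lit 0x3218800083d824018ac1),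
    (nat_lit 0x39733800c294bf1478c1), (nat_lit 0), (nat_lit 0x80000c0009003f000), (nat_lit 0x32c26c00010002ec6800),
    (nat_lit 1), (nat_lit 0x80000c000d00061c0), (nat_lit 0x32c26c00010202086600), (nat_lit 0x16996c0041c33009c380),
    (nat_lit 0), (nat_lit 0x1800004001b000a000), (nat_lit 0x16422400030006382800), (nat_lit 0x10000040308b004140),
    (nat_lit 64), (nat_lit 512), (nat_lit 0x1000008000a8004080), (nat_lit 0x10000080019f004186)]

noncomputable def c2_low : List (ℕ × List ℕ) :=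
  [((nat_lit 0), [(nat_lit 1), (nat_lit 98), (nat_lit 2), (nat_lit 0)]),
    ((nat_lit 1), [(nat_lit 196), (nat_lit 4), (nat_lit 6241), (nat_lit 164), (nat_lit 5), (nat_lit 197), (nat_lit 0), (nat_lit 6)]),
    ((nat_lit 2), [(nat_lit 168033), (nat_lit 0)]),
    ((nat_lit 3), [(nat_lit 0), (nat_lit 7)])]

noncomputable def c2_fm_ws : List ℕ := [(nat_lit 0),
    (nat_lit 0xc24094440904519024),
    (nat_lit 0x4a3204a22048228482),
    (nat_lit 0x8121444094440948228482),
    (nat_lit 0x2888128881208a320485),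
    (nat_lit 0xca2204a4190a1208a2),
    (nat_lit 0x90450902511025),
    (nat_lit 0x9483204a120c85),
    (nat_lit 0x241948128881208a221424)]

noncomputable def c2_fm_cs : List ℕ := [F2.idM 24,
    (nat_lit 0xde2eb4be4a2061b6e989387704ac444568900d96a0039fe1bf991d9f881f51b8152a6294be4a603f4c1f528832e088007caffe40080049b813bd585782000071bc150b0cafbcd480),
    (nat_lit 0x1f16664d2940f35eb6d371c808cfeb259bed28943e4379c9ac41d033bd892e2ccf33d6a6ada000d370c92b01144009407bc300a081003c86dd298e8b31ae373d20002183ff6ef9c8),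
    (nat_lit 0xff8ef4be4a20bb498f441ae464c8d004ac440d78e7390f8044c63bbaf8cd4a88349beb5abe4a6046176314449be08800bfd12b4008003d37dac099a4454a607e67da7b5167eb11e7),
    (nat_lit 0x608000400000e0000009832080c0406c404080a80082880020000084804063280011b494000800804f5ddfeb400001008e5f55000040000200868f579030141118ebf4d444300ff5),
    (nat_lit 0xf24b6040000077cff473418e00d0927e9bf277537c0f1488250494527f267c7fe885a9ef00080072f1c854b001000100ff69c00000404750017f7982ce1d7314a104b6c21f4ee18f),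
    (nat_lit 0xdecb60400000deaff483a18ed7fbf2853092aed37ca01fe8a0e494ccb446fff488047f89000800ccf0461b30010001009b796f000040161b61e4e6995fb014202f7e7bf0eda11fe9),
    (nat_lit 0x800000400000c08000fda000c40000c8000023a000c02000e000002cc000c100004010000008008c0540dfe96000010061a9c0000040dfeb40a089108c08084001048120429feb61),
    (nat_lit 0xe5d4ada100f3018f96b0c4c481d08465447b51a76467c0008e3b5b198d3a4074150490724b207146a037479b9fea60590200d2c32000fd9a7902d0a9f5031000202ff2266bf2a4)]

theorem c2_fm : ∃ el : ℕ → hj, FM el 8 24 code2 (nth c2_fm_cs) :=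
  let ⟨_, M⟩ := fm; ⟨_, M.words (ws := c2_fm_ws) (by decide +kernel)⟩

theorem c2_run : c2.runOK = true := by decide +kernel

theorem c2_nd : Nd hj (2 ^ 2) :=
  let ⟨_, M⟩ := c2_fm
  M.nd (C := c2) (N := 4) (vs := 21414491059469676416183674880) (l := c2_low) Nat.prime_two card_hj
    (by decide +kernel) c2_run (by decide +kernel)

noncomputable def c3 : Cert where
  p := 3
  n := (nat_lit 3)
  q := (nat_lit 3)
  D := (nat_lit 3)
  W := (nat_lit 15)
  tab := (nat_lit 0x305060a0c14000620a040a00000828000)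
  L := (nat_lit 3)
  ytab := (nat_lit 0x1828305841408150850105)
  gtab := (nat_lit 0)
  w := (nat_lit 16)
  F := (nat_lit 16)
  c := (nat_lit 4)
  Btab := (nat_lit 0x4208422)
  wM := (nat_lit 4)
  Mtab := (nat_lit 0x6100010000)
  rels := [.a (nat_lit 66) (nat_lit 2) (nat_lit 1) (nat_lit 1), .b (nat_lit 0) (nat_lit 2) (nat_lit 258) (nat_lit 2) (nat_lit 513) (nat_lit 67) (nat_lit 2115),
    .b (nat_lit 0) (nat_lit 2) (nat_lit 2) (nat_lit 2) (nat_lit 512) (nat_lit 35) (nat_lit 1059)]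
  a1 := (nat_lit 7)
  o1 := (nat_lit 1)
  r1 := (nat_lit 0)
  a2 := (nat_lit 7)
  o2 := (nat_lit 1)
  r2 := (nat_lit 0)
  rows := [(nat_lit 0), (nat_lit 0), (nat_lit 0), (nat_lit 0),
    (nat_lit 0), (nat_lit 0), (nat_lit 0), (nat_lit 2048),
    (nat_lit 32768), (nat_lit 536576)]

noncomputable def c3_low : List (ℕ × List ℕ) :=
  [((nat_lit 0), [(nat_lit 1), (nat_lit 3105), (nat_lit 99), (nat_lit 3137), (nat_lit 97), (nat_lit 33), (nat_lit 3), (nat_lit 100385), (nat_lit 0)]),
    ((nat_lit 1), [(nat_lit 0), (nat_lit 3138), (nat_lit 3170)])]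

noncomputable def c3_fm_ws : List ℕ := [(nat_lit 0),
    (nat_lit 0x428883208a120485),
    (nat_lit 0x85110a3208a320c85),
    (nat_lit 0x64288a22048129045),
    (nat_lit 0x428881208a4)]

noncomputable def c3_fm_cs : List ℕ := [F2.idM 24,
    (nat_lit 0xbb56661cc0c03b4a2ef9527b389ac1bb3559be393900e9c8be37b65ed5bb00f8dc1b37ae114c88fd503be060e37e502f41c4da202d7e22a0b95e483ffe70757d29409b846faab750),
    (nat_lit 0xf1188cd4156166080a47c40e8ac842e8f8f731e4236613a1d844157451518ba103e9e243d2aa59997f5457c567e3950f1b8ccf8ab5dd3d7583bc6f6ed875ddeb7bcc0fae31058d4d),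
    (nat_lit 0x34f3b200d092d7f6599b02118969af8301ef94f2a2aef1a0947e59803222b650a07afe11cda5c9a98fda9dc54129c4471acf05e03406398721e8c0bce7158cbaad15dc6d41e29ce2),
    (nat_lit 0x60cb60450446ba2becde341c674fea9e2becaa14b002911a8f048a004000ce141ce1c1bdda89a7028fc755072db4d590a90eed7fe48ab4d4b0eb2ff1b4d498ca2a832eff7e2eff7d)]

theorem c3_fm : ∃ el : ℕ → hj, FM el 4 24 code2 (nth c3_fm_cs) :=
  let ⟨_, M⟩ := fm; ⟨_, M.words (ws := c3_fm_ws) (by decide +kernel)⟩

theorem c3_run : c3.runOK = true := by decide +kernel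

theorem c3_nd : Nd hj (3 ^ 1) :=
  let ⟨_, M⟩ := c3_fm
  M.nd (C := c3) (N := 2) (vs := 14470833036916) (l := c3_low) Nat.prime_three card_hj
    (by decide +kernel) c3_run (by decide +kernel)

noncomputable def c5 : Cert where
  p := 5
  n := (nat_lit 2)
  q := (nat_lit 5)
  D := (nat_lit 5)
  W := (nat_lit 45)
  tab := (nat_lit 0x205000000001028000000000000000000020a00000000000)
  L := (nat_lit 2)
  ytab := (nat_lit 0x842104210940000000008140000000020a00000000105)
  gtab := (nat_lit 0)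
  w := (nat_lit 18)
  F := (nat_lit 18)
  c := (nat_lit 5)
  Btab := (nat_lit 67617)
  wM := (nat_lit 5)
  Mtab := (nat_lit 0x2000400)
  rels := [.b (nat_lit 0) (nat_lit 2) (nat_lit 1) (nat_lit 2) (nat_lit 256) (nat_lit 34) (nat_lit 67650)]
  a1 := (nat_lit 4)
  o1 := (nat_lit 1)
  r1 := (nat_lit 0)
  a2 := (nat_lit 4)
  o2 := (nat_lit 1)
  r2 := (nat_lit 0)
  rows := [(nat_lit 0), (nat_lit 0), (nat_lit 0), (nat_lit 0),
    (nat_lit 8192), (nat_lit 0)]

noncomputable def c5_low : List (ℕ × List ℕ) :=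
  [((nat_lit 0), [(nat_lit 0), (nat_lit 0x208421), (nat_lit 0x4208421), (nat_lit 0x84208421), (nat_lit 2081), (nat_lit 33), (nat_lit 65), (nat_lit 67650), (nat_lit 0x4210821), (nat_lit 0x210821), (nat_lit 67617), (nat_lit 2114), (nat_lit 1057), (nat_lit 33825), (nat_lit 66), (nat_lit 66593), (nat_lit 1), (nat_lit 0x210841), (nat_lit 0x1084208421), (nat_lit 0x84210421), (nat_lit 2), (nat_lit 67649), (nat_lit 0x4210421), (nat_lit 0x210421), (nat_lit 2113)])]

noncomputable def c5_fm_ws : List ℕ := [(nat_lit 0),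
    (nat_lit 0x2906411445),
    (nat_lit 0x409444194812888128881),
    (nat_lit 0x1025090651102520ca220ca4)]

noncomputable def c5_fm_cs : List ℕ := [F2.idM 24,
    (nat_lit 0x7033b23ef4a9c48444d9880ce7c84007f78983c5b9bcb50977e68bcb05ebfa2f9ab57583b6fca18cda3d854e1f82047f8cdebd010090fe61a4450e5fc81657513094da7698393336),
    (nat_lit 0xf8c1ec9319cdcff21408b282145c0833796f28b61de79d8bff19872c78d7e98903d359e3bda0818cdebd0ceebf400e6fbc41c864863b5535c348158c62214ebca180e375aa1c642f),
    (nat_lit 0x6036264a5f1505f79b64b2063f4614b3c07f3426225b8441c12664bbc02e5bee096bd10735091cd492262b4de43b4dba13716fa8ffd10fcf8324bc59100f9d050a60fabe137ff7fe)]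

theorem c5_fm : ∃ el : ℕ → hj, FM el 3 24 code2 (nth c5_fm_cs) :=
  let ⟨_, M⟩ := fm; ⟨_, M.words (ws := c5_fm_ws) (by decide +kernel)⟩

theorem c5_run : c5.runOK = true := by decide +kernel

theorem c5_nd : Nd hj (5 ^ 1) :=
  let ⟨_, M⟩ := c5_fm
  M.nd (C := c5) (N := 1) (vs := 862528) (l := c5_low) Nat.prime_five card_hj
    (by decide +kernel) c5_run (by decide +kernel)

theorem ndL : NdL hj [(2, 1), (3, 0), (5, 0), (7, 0)] :=
  (((NdL.nil.cyc card_hj 7).cons Nat.prime_five c5_nd).cons Nat.prime_three c3_nd).cons Nat.prime_two c2_nd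

/-- An element with square `-1`. -/
def sY : ℕ := 0x40424242424042424042403e403e3e403e4040423e42423e3f41414141414141413f413f3f3f3f413d4141413f41413f3f4141413f4141413f413f3f3f3f3f3f3f3f41413f41413d3f41414141413f413f413f3f413f3f413f413f413f41433f3f414341413f41413f41413f3f413f3f3f413f413f41413f404040404240424240424040404040403e4040424040423e3f414143413f414141413f3f413f3f3f3f4141413f3f413f3f414141413f41413f41413f413f3d413f3f41414141413f404042424240404240404040403e4040404040424042403e3f434141413f414141413f413f3f3f413f3f3f413f41413f404042424040424040424040403e40403e4040404042424041414141413f41413f3f3f3f413f3f3f3d3f3f413f41413f3e4042424040404040404040403e40403e4042404240403e3f4141413f3f3f413f3f3f41413f3f413f3f3f414141413d3d4141413f3f3f413f3f3f413f413f413f41413f413f413f3e3e4240404040403e40404240404040404040404240423e3f414141413f3f413f3f3f434141413f3f413f41413f413f3e40424040404042404040423e4040403e4040424040403e3e4040424040404040423e42404040403e4040404040423e3e404242403e40403e404040424040403e404040404042403f3f41413f3f413f3f3f3f413f41413f3d414141413f413f3f3f4141414141413f3f3f41413f41413d413f414141413f3e404240403e4040403e4042404040403e404040424240403f3f413f3f3f3f3f3f3f3f43414141413f41413f413f3f3f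
/-- Its matrix modulo two. -/
def sC : ℕ := 0xa2d9607dd1f7676fc936e9555d6457f99f6c6fd8737b2b3fde9bea9d9117f264864198976e0b5608c6e1d3156b375ff4141e5b18276e698f7cd1a8829696fb567bdfc4208ca00f69

theorem exists_sq : ∃ g : hj0, (g : Co0) ^ 2 = negOne := by
  obtain ⟨g, h1, h2⟩ := exists_of_chkY (Y := sY) (C := sC) (by decide +kernel)
  obtain ⟨el, M⟩ := fm
  have k := (M.words (n' := 1) (ws := [0, 198383223082124511558079617]) (cs := [F2.idM 24, sC]) (by decide +kernel)).rep 1 le_rfl
  refine ⟨⟨g, show (g : Co1) ∈ hj from Co.fa.ext _ _ _ k (lrep_mk h1) ▸ Subtype.property _⟩, ?_⟩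
  have k2 := h1.mul h1
  rw [show F2.mmul 24 sC sC = F2.idM 24 by decide +kernel] at k2
  refine (pow_two g).trans ((eq_one_or_negOne_of_code fun x => (k2 x).trans (F2.app_idM (code_lt x))).resolve_left
    fun e => ?_)
  have := dot_smul g (g • bas 0) (bas 1)
  rw [← mul_smul, e, one_smul, h2 0 (by norm_num), h2 1 (by norm_num), coe_bas (by norm_num), coe_bas (by norm_num)] at this
  revert this
  decide +kernel

theorem lb : Lb hj (Multiplicative (ZMod 2)) := by
  obtain ⟨g, hg⟩ := exists_sq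
  have hs := pr1.subgroupComap_surjective_of_surjective hj (QuotientGroup.mk'_surjective _)
  have hc := (center_comap center_hj).ge
  refine lb_quot hs hc (z := g ^ 2) (Subtype.ext ?_) (pow_mem_commutator hs ?_ (fun z hz => ⟨hc hz, ?_⟩) g) ?_
  · exact (QuotientGroup.eq_one_iff _).2 ((hg ▸ negOne_mem_center : (g : Co0) ^ 2 ∈ _))
  · obtain ⟨a, b, h⟩ := exists_noncomm
    exact (IsSimpleGroup.eq_bot_or_eq_top_of_normal _ inferInstance).resolve_left fun e =>
      h (commutatorElement_eq_one_iff_mul_comm.1 (Subgroup.mem_bot.1 (e ▸ Subgroup.commutator_mem_commutator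
        (Subgroup.mem_top a) (Subgroup.mem_top b))))
  · rcases mem_center_iff.1 ((QuotientGroup.eq_one_iff _).1 (congrArg Subtype.val hz)) with e | e <;>
      exact Subtype.ext (by simp [e, pow_two, negOne_mul_self])
  · rw [← Subgroup.orderOf_coe, Subgroup.coe_pow, hg]
    exact orderOf_eq_prime (by rw [pow_two, negOne_mul_self]) negOne_ne_one

end Cfsg.Lib.Mult.J2
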