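import Cfsg.Agent.Lib.Mult.Cover
import Cfsg.Agent.Lib.J3.Basic

/-! # The Schur multiplier of `J₃` (generated) -/

set_option autoImplicit false
set_option maxRecDepth 100000

namespace Cfsg.Lib.Mult.J3

open Cfsg.Lib.Calc Cfsg.Lib.J3 Cfsg.Spor

variable {F : Type*} [Field F] {ω : F} (h : F2.IsF4 ω)
include h

theorem fa : FA (GL F9 F) 18 (cd ω) :=
  ⟨F2.code4_lt, fun _ _ => h.code4_inj num, fun _ hc => h.exists_code4 num hc, fun g e =>
    Subgroup.mem_bot.1 (ker_eq h ▸ fun x => congrArg _ (e x))⟩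

theorem fm0 : ∃ el : ℕ → threeJ3 F ω, FM el 2 18 (cd ω) (nth (F2.idM 18 :: gL)) :=
  ⟨_, ((fa h).subgroup _).fm fun C hC => let ⟨g, h1, h2⟩ := good_g' h C hC; ⟨⟨g, h1⟩, h2⟩⟩

noncomputable def fm_ws : List ℕ := [(nat_lit 0),
    (nat_lit 1),
    (nat_lit 2),
    (nat_lit 0x2108421084210842108421),
    (nat_lit 0x4210842108421084210842)]

noncomputable def fm_cs : List ℕ := [F2.idM 18,
    (nat_lit 0x39f889e9166e57767fd7102f8c05a6abd755c6f2a3685b2f7186b8b2b2985850ddec2ee6a711978cd),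
    (nat_lit 0x96dbdf6da0edc026e05c717e38f35990bddcfbc2a9a057b0ef98264a18314d0cf9e229e4c4efa3269),
    (nat_lit 0x37688bb516f14b68f1bec1da60ee6ab6755b53593cbdc6e57f67fab2311848c329ac85d6b2899851d),
    (nat_lit 0x8c7d523afcd5022fc0d7a9ef95ea35914bdc5e427e707f70fab82992195c4df4fa2729474c90b21c1)]

theorem fm : ∃ el : ℕ → (threeJ3 F ω), FM el 4 18 (cd ω) (nth fm_cs) :=
  let ⟨_, M⟩ := fm0 h; ⟨_, M.words (ws := fm_ws) (by decide +kernel)⟩

noncomputable def c2 : Cert where
  p := 2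
  n := (nat_lit 7)
  q := (nat_lit 2)
  D := (nat_lit 2)
  W := (nat_lit 31)
  tab := (nat_lit 0x1c1400003828000070500000e0a00001c1400003828000070500000000000018140000302800006050001cc14000018140000302800007050001ca140000141400e62878000c50a00000a0a00001c140006205000004050001c8140000101400073050000a30a0039861e00000c1400072050000820a0000040a00000000000008280000000)
  L := (nat_lit 5)
  ytab := (nat_lit 0x3085000006050031021e0002042800e208780000605e62082320000141400a208780000405)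
  gtab := (nat_lit 0x101000000)
  w := (nat_lit 16)
  F := (nat_lit 31)
  c := (nat_lit 2)
  Btab := (nat_lit 0x2418c2110c2310822)
  wM := (nat_lit 2)
  Mtab := (nat_lit 0x8002020020000210c30070400000)
  rels := [.b (nat_lit 0) (nat_lit 2) (nat_lit 258) (nat_lit 2) (nat_lit 513) (nat_lit 166) (nat_lit 134), .b (nat_lit 0) (nat_lit 2) (nat_lit 2) (nat_lit 2) (nat_lit 512) (nat_lit 134) (nat_lit 167),
    .b (nat_lit 1) (nat_lit 2) (nat_lit 772) (nat_lit 2) (nat_lit 1027) (nat_lit 1158) (nat_lit 3207), .a (nat_lit 3) (nat_lit 2) (nat_lit 1) (nat_lit 0x443214c7),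
    .a (nat_lit 3) (nat_lit 2) (nat_lit 2) (nat_lit 3207), .a (nat_lit 3) (nat_lit 3) (nat_lit 2) (nat_lit 70),
    .a (nat_lit 5) (nat_lit 2) (nat_lit 2) (nat_lit 133), .a (nat_lit 5) (nat_lit 5) (nat_lit 2) (nat_lit 71),
    .a (nat_lit 4) (nat_lit 4) (nat_lit 3) (nat_lit 103), .a (nat_lit 6) (nat_lit 2) (nat_lit 2) (nat_lit 4295),
    .a (nat_lit 5) (nat_lit 5) (nat_lit 1) (nat_lit 39), .a (nat_lit 3) (nat_lit 1) (nat_lit 1) (nat_lit 3),
    .a (nat_lit 5) (nat_lit 5) (nat_lit 4) (nat_lit 135), .a (nat_lit 5) (nat_lit 3) (nat_lit 3) (nat_lit 5319),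
    .a (nat_lit 2) (nat_lit 1) (nat_lit 1) (nat_lit 2), .a (nat_lit 6) (nat_lit 4) (nat_lit 4) (nat_lit 199),
    .a (nat_lit 5) (nat_lit 5) (nat_lit 3) (nat_lit 103), .a (nat_lit 3) (nat_lit 3) (nat_lit 3) (nat_lit 3271),
    .a (nat_lit 6) (nat_lit 6) (nat_lit 2) (nat_lit 2), .a (nat_lit 4) (nat_lit 4) (nat_lit 2) (nat_lit 71),
    .a (nat_lit 2) (nat_lit 2) (nat_lit 2) (nat_lit 2183), .a (nat_lit 5) (nat_lit 1) (nat_lit 1) (nat_lit 5),
    .a (nat_lit 4) (nat_lit 1) (nat_lit 1) (nat_lit 4), .a (nat_lit 5) (nat_lit 5) (nat_lit 5) (nat_lit 167),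
    .a (nat_lit 6) (nat_lit 6) (nat_lit 4) (nat_lit 4), .a (nat_lit 4) (nat_lit 4) (nat_lit 4) (nat_lit 135)]
  a1 := (nat_lit 9)
  o1 := (nat_lit 1)
  r1 := (nat_lit 0)
  a2 := (nat_lit 9)
  o2 := (nat_lit 1)
  r2 := (nat_lit 0)
  rows := [(nat_lit 0), (nat_lit 0), (nat_lit 0), (nat_lit 0),
    (nat_lit 0), (nat_lit 0), (nat_lit 0), (nat_lit 0),
    (nat_lit 0), (nat_lit 0), (nat_lit 0), (nat_lit 0),
    (nat_lit 114688), (nat_lit 0x400a202ba0890), (nat_lit 0x8007f37e79960), (nat_lit 0),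
    (nat_lit 0xf0d6b71dbbda0), (nat_lit 0x7da7d9c1d843a0), (nat_lit 0xbb5d5b53aaba90), (nat_lit 0xc2a600b182d280),
    (nat_lit 0x51e728e243fdf0), (nat_lit 0), (nat_lit 0x2aaad1a1ef8440), (nat_lit 0xc8005312e0e740),
    (nat_lit 0x22aaa2a2d02020), (nat_lit 0x30000f8000), (nat_lit 0x22aaa2b2002320), (nat_lit 0x20a0f101c7b6c0),
    (nat_lit 0), (nat_lit 0x800082218e8e80), (nat_lit 229376), (nat_lit 0x22aaa2a2402020),
    (nat_lit 16), (nat_lit 256), (nat_lit 0x20010a0000), (nat_lit 0x80008223868a80)]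

noncomputable def c2_low : List (ℕ × List ℕ) :=
  [((nat_lit 0), [(nat_lit 6), (nat_lit 6242), (nat_lit 5), (nat_lit 195), (nat_lit 0), (nat_lit 98), (nat_lit 3), (nat_lit 197)]),
    ((nat_lit 1), [(nat_lit 194), (nat_lit 0)]),
    ((nat_lit 2), [(nat_lit 0), (nat_lit 4)]),
    ((nat_lit 3), [(nat_lit 0), (nat_lit 4161)]),
    ((nat_lit 4), [(nat_lit 7), (nat_lit 0)])]

noncomputable def c2_fm_ws : List ℕ := [(nat_lit 0),
    (nat_lit 0x108864084410902108842),
    (nat_lit 0x842084431906420483),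
    (nat_lit 0x3210620886320c4110822),
    (nat_lit 0x9021204421902219024),
    (nat_lit 0x18841104411042418c63),
    (nat_lit 0x1088211044110c41),
    (nat_lit 0x1084188221884110822),
    (nat_lit 0x6408441088640886210863),
    (nat_lit 0x422104810886208862)]

noncomputable def c2_fm_cs : List ℕ := [F2.idM 18,
    (nat_lit 0xbe0c1a422d2dc6c6e92c55c63f784fb9329478bf391aa00c140201d9b0edd83d464af375e43be709),
    (nat_lit 0x42fc306a06a15354fcace35624bd84eed32654b8ff19208014100f15970fdf8bc561a3f4d067ec37a),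
    (nat_lit 0x8e90125c62b874593670af7816d5c26fe07f2a2a85456ceb36258af24568734af5316bc2d6f06f68),
    (nat_lit 0xa1fb14e98cd91a2dcdd830ad08140caf02166191f4dcef6c2ab605020a00414c2c8a0611325d887ed),
    (nat_lit 0x8c0c1202010310c08c800c500230323008480080001002210044c0c400a3001330308808040483031),
    (nat_lit 0x25a247d47a1dc54ee3c10da0c2dfc40aa30193b35c98bb0665837714300f0808c6052343faf329688),
    (nat_lit 0x40843013210104c0cc800a1001322008440008000100022200444800850013302208044c80c21020),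
    (nat_lit 0xbb0219804e11de4cee0312008c455e07fe4388cc512231b3b8d8997718fb8d2ddec2ee60fc122a0c4),
    (nat_lit 0x453a73c97666837750858c13d209be69da754fa472973a3f1d4a8e3155c8ffe163b4f49bce40a2701)]

theorem c2_fm : ∃ el : ℕ → (threeJ3 F ω), FM el 9 18 (cd ω) (nth c2_fm_cs) :=
  let ⟨_, M⟩ := fm h; ⟨_, M.words (ws := c2_fm_ws) (by decide +kernel)⟩

omit h in
theorem c2_run : c2.runOK = true := by decide +kernel

theorem c2_nd : Nd (threeJ3 F ω) (2 ^ 1) :=
  let ⟨_, M⟩ := c2_fm h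
  M.nd (C := c2) (N := 5) (vs := 428164457344126240365913461) (l := c2_low) Nat.prime_two (card_threeJ3 h)
    (by decide +kernel) c2_run (by decide +kernel)

noncomputable def c3 : Cert where
  p := 3
  n := (nat_lit 6)
  q := (nat_lit 3)
  D := (nat_lit 3)
  W := (nat_lit 36)
  tab := (nat_lit 0x60500000060500000060500000060500000060500000060500000000000000050500000050500000c50a00000050500000050500000000000000040500000040500000c40a00000040500000000000000a30a00000830a00000030500018c40f00000620a00000020500018a50f000000105000000000)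
  L := (nat_lit 4)
  ytab := (nat_lit 0x60500000060500000a50a000000505a5210421e000000205a518c211e000000105)
  gtab := (nat_lit 0)
  w := (nat_lit 19)
  F := (nat_lit 64)
  c := (nat_lit 4)
  Btab := (nat_lit 0x904308c4208821)
  wM := (nat_lit 4)
  Mtab := (nat_lit 0x600000060000006000000060708100870001000000)
  rels := [.a (nat_lit 2) (nat_lit 1) (nat_lit 1) (nat_lit 70822), .a (nat_lit 66) (nat_lit 2) (nat_lit 1) (nat_lit 36),
    .b (nat_lit 0) (nat_lit 2) (nat_lit 259) (nat_lit 2) (nat_lit 769) (nat_lit 70) (nat_lit 0x844214a6), .b (nat_lit 0) (nat_lit 2) (nat_lit 3) (nat_lit 2) (nat_lit 768) (nat_lit 38) (nat_lit 0x423194a6),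
    .a (nat_lit 5) (nat_lit 2) (nat_lit 1) (nat_lit 0x110ca6), .a (nat_lit 4) (nat_lit 2) (nat_lit 1) (nat_lit 0x110c86),
    .a (nat_lit 5) (nat_lit 3) (nat_lit 1) (nat_lit 35973), .a (nat_lit 6) (nat_lit 2) (nat_lit 1) (nat_lit 34918),
    .a (nat_lit 6) (nat_lit 2) (nat_lit 2) (nat_lit 4), .a (nat_lit 99) (nat_lit 3) (nat_lit 2) (nat_lit 2),
    .a (nat_lit 132) (nat_lit 4) (nat_lit 1) (nat_lit 1), .a (nat_lit 99) (nat_lit 3) (nat_lit 1) (nat_lit 1),
    .b (nat_lit 0) (nat_lit 2) (nat_lit 515) (nat_lit 2) (nat_lit 770) (nat_lit 166) (nat_lit 5286), .a (nat_lit 2) (nat_lit 2) (nat_lit 2) (nat_lit 69830),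
    .a (nat_lit 1) (nat_lit 1) (nat_lit 1) (nat_lit 38054)]
  a1 := (nat_lit 6)
  o1 := (nat_lit 1)
  r1 := (nat_lit 0)
  a2 := (nat_lit 6)
  o2 := (nat_lit 1)
  r2 := (nat_lit 0)
  rows := [(nat_lit 0), (nat_lit 0), (nat_lit 0), (nat_lit 0),
    (nat_lit 0), (nat_lit 0), (nat_lit 0), (nat_lit 0),
    (nat_lit 0), (nat_lit 0x87061835328880000), (nat_lit 0), (nat_lit 0),
    (nat_lit 0x800000200021000), (nat_lit 0x400801100010000), (nat_lit 0x600306600860000), (nat_lit 0),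
    (nat_lit 0x50008000080500), (nat_lit 0x11607463381110000), (nat_lit 0x88003000020000), (nat_lit 0x80000000000),
    (nat_lit 0x33000080030000), (nat_lit 0), (nat_lit 0x80002000020000), (nat_lit 0x500000800080000),
    (nat_lit 0x8000000000), (nat_lit 0x600000500060000), (nat_lit 524288), (nat_lit 0x308000000)]

noncomputable def c3_low : List (ℕ × List ℕ) :=
  [((nat_lit 0), [(nat_lit 6210), (nat_lit 195), (nat_lit 3), (nat_lit 66), (nat_lit 5283), (nat_lit 202818), (nat_lit 200802), (nat_lit 198689), (nat_lit 4), (nat_lit 0xa418841), (nat_lit 135267), (nat_lit 0xa420841), (nat_lit 4194), (nat_lit 134241), (nat_lit 0x420841), (nat_lit 2081), (nat_lit 6340), (nat_lit 0x418841), (nat_lit 133153), (nat_lit 0x8418c42), (nat_lit 0x621063), (nat_lit 0x520c42), (nat_lit 196), (nat_lit 98), (nat_lit 2113), (nat_lit 0x628c62), (nat_lit 101441), (nat_lit 0xc518841), (nat_lit 202882), (nat_lit 4227), (nat_lit 0x610821), (nat_lit 3138), (nat_lit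 65), (nat_lit 4161), (nat_lit 131), (nat_lit 4162), (nat_lit 0x528c61), (nat_lit 6276), (nat_lit 202851), (nat_lit 0x631082), (nat_lit 0xc521042), (nat_lit 6), (nat_lit 194), (nat_lit 135233), (nat_lit 0x630841), (nat_lit 97), (nat_lit 0x518841), (nat_lit 0x521062), (nat_lit 6274), (nat_lit 5219), (nat_lit 200834), (nat_lit 2), (nat_lit 0x621042), (nat_lit 0), (nat_lit 67617), (nat_lit 0x631041), (nat_lit 3105), (nat_lit 0x630c42), (nat_lit 202817), (nat_lit 0x631042), (nat_lit 167009), (nat_lit 132), (nat_lit 198721), (nat_lit 3170), (nat_lit 130), (nat_lit 168067), (nat_lit 100417), (nat_lit 135266), (nat_lit 200770), (nat_lit 3169), (nat_lit 4225), (nat_lit 99), (nat_lit 0xc629082), (nat_lit 198), (nat_lit 6338), (nat_lit 135234), (nat_lit 101442), (nat_lit 6209), (nat_lit 6275), (nat_lit 200769), (nat_lit 166978)]),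
    ((nat_lit 1), [(nat_lit 6177), (nat_lit 0), (nat_lit 5281)]),
    ((nat_lit 2), [(nat_lit 6309), (nat_lit 0), (nat_lit 6341)])]

noncomputable def c3_fm_ws : List ℕ := [(nat_lit 0),
    (nat_lit 0x4220886310c6318c42),
    (nat_lit 0x20844210c420884218c64),
    (nat_lit 0x18842084841884110862),
    (nat_lit 0x320c8310c642102110c63),
    (nat_lit 0x1884120c632108418c84),
    (nat_lit 0x8841084420884108442),
    (nat_lit 0x420c64210811048408443)]

noncomputable def c3_fm_cs : List ℕ := [F2.idM 18,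
    (nat_lit 0xfae0a964156393f49c25a387d49c5be23da418a08d141be0d9a42d5873bd389c3daa0ad5e247a4739),
    (nat_lit 0xc309e081ee0e12424cac2316048cb91e19ce2b6285b45bdb0dad822cc006200889bd11da4b9a319d4),
    (nat_lit 0x7c54ba3f149b8b1d9161a2f4d467d827ad07a86615374d202ac40519f70deb80ffa42a97f931e9c8e),
    (nat_lit 0xd3d36cacbbf239a849cfa8629539c35de0bef9dee9ee68be291a4510b1cc18e1dfc4eea3d9fdadead),
    (nat_lit 0xf7c16ba0fdf90ae9c1444c73323102f4c06b6638f7492327c087a04712338c46605b743d7fc17aa0f),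
    (nat_lit 0x40003000010000c000040003000010000c000040003000010000c000040003000010000c000040003),
    (nat_lit 0x18b80d1902e89c651ed6862f534811d10cecc8316108ffe512a7cc398789d399180dcd0225e3c7e4a)]

theorem c3_fm : ∃ el : ℕ → (threeJ3 F ω), FM el 7 18 (cd ω) (nth c3_fm_cs) :=
  let ⟨_, M⟩ := fm h; ⟨_, M.words (ws := c3_fm_ws) (by decide +kernel)⟩

omit h in
theorem c3_run : c3.runOK = true := by decide +kernel

theorem c3_nd : Nd (threeJ3 F ω) (3 ^ 1) :=
  let ⟨_, M⟩ := c3_fm h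
  M.nd (C := c3) (N := 3) (vs := 6230618921401981) (l := c3_low) Nat.prime_three (card_threeJ3 h)
    (by decide +kernel) c3_run (by decide +kernel)

theorem ndL : NdL (J3 F ω) [(2, 0), (3, 1), (5, 0), (17, 0), (19, 0)] := by
  have : Finite (threeJ3 F ω) := Nat.finite_of_card_ne_zero (by rw [card_threeJ3 h]; norm_num)
  have k {p j : ℕ} (hp : p.Prime) (hd : Nd (threeJ3 F ω) (p ^ 1)) (hj : ¬p ^ (j + 1) ∣ 3) : Nd (J3 F ω) (p ^ (1 + j)) :=
    Nd.quot (QuotientGroup.mk'_surjective _) (QuotientGroup.ker_mk' _).le hp hd (by rwa [QuotientGroup.ker_mk', card_center h])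
  exact ((((NdL.nil.cyc (card_J3 h) 19).cyc (card_J3 h) 17).cyc (card_J3 h) 5).cons Nat.prime_three
    (k (j := 1) Nat.prime_three (c3_nd h) (by norm_num))).cons Nat.prime_two (k (j := 0) Nat.prime_two (c2_nd h) (by norm_num))

theorem lb : Lb (J3 F ω) (Multiplicative (ZMod 3)) := by
  obtain ⟨el, M⟩ := fm h
  have hL := M.lab (iv := 2134112) (by decide +kernel)
  let t : W := .mul (.mul (.mul (.mul (.l 4) (.mul (.l 4) (.l 1))) (.mul (.l 1) (.mul (.l 2) (.l 2)))) (.mul (.mul (.l 1) (.mul (.l 1) (.l 1))) (.mul (.l 2) (.mul (.l 2) (.l 3))))) (.mul (.mul (.mul (.l 2) (.mul (.l 2) (.l 2))) (.mul (.l 3) (.mul (.l 4) (.l 3)))) (.mul (.mul (.l 4) (.mul (.l 3) (.l 4))) (.mul (.l 3) (.mul (.l 4) (.l 4)))))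
  have e : (t.ev fun i => el (cut 4 i) : (threeJ3 F ω)) = scal h :=
    (fa h).ext _ _ _ (M.cut.lact.ev (t := t) (Nat.lt_succ_self 4) hL (by decide +kernel)) (lrep_scal h)
  refine lb_quot (QuotientGroup.mk'_surjective _) (QuotientGroup.ker_mk' _).le ((QuotientGroup.eq_one_iff _).2 ?_)
    (ev_mem_commutator hL (t := t) (by decide +kernel)) (by rw [← Subgroup.orderOf_coe, e, orderOf_scal])
  exact Subgroup.mem_center_iff.2 fun g => Subtype.ext (by simp only [Subgroup.coe_mul, e, scal_comm])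

end Cfsg.Lib.Mult.J3
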