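import Cfsg.Agent.Lib.Mult.Fam
import Cfsg.Agent.Lib.GLC.Ord2

/-! # The Schur multiplier of `L₃(2)` (generated) -/

set_option autoImplicit false
set_option maxRecDepth 100000
set_option maxHeartbeats 0

namespace Cfsg.Lib.Mult.L32

open Cfsg.Lib.Calc Cfsg.Lib.Asch Subgroup Matrix

universe u

/-- The parameters of the arithmetic. -/
def fp : FP := ⟨2, 4, 3, 1, 1⟩

theorem bas : Bas (K := K2) fp 3 1 (Fin.ofNat 3) (fun t => TF.c (2 ^ t)) := by
  constructor <;> decide +kernel

/-- Generators. -/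
def gl : List (ℕ × ℕ) := [(4295032849, (nat_lit 0x100011001)),
    (4295036929, (nat_lit 0x100010011)),
    (4296081409, (nat_lit 0x110010001)),
    (4563468289, (nat_lit 0x100110001))]

theorem base : LX (SpecialLinearGroup (Fin 3) K2) 4 fp (nth (fp.one :: gl.map Prod.snd)) :=
  bas.sl (l := gl) (tmat Fin.val 3) 2 (by decide +kernel) (by decide +kernel)

theorem card : Nat.card (SpecialLinearGroup (Fin 3) K2) = 168 := by
  rw [GLC.card_SL_eq, Nat.card_eq_fintype_card, TF.card]; rfl

theorem cardZ : Nat.card (center (SpecialLinearGroup (Fin 3) K2)) = 1 := by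
  rw [Linear.card_center_SL, TF.card]; rfl

theorem cardQ : Nat.card (ProjectiveSpecialLinearGroup (Fin 3) K2) = 168 := by
  have := Linear.card_PSL_mul (ι := Fin 3) (F := K2)
  rwa [card, TF.card, show Nat.gcd _ _ = 1 from rfl, one_mul] at this

noncomputable def c2 : Cert where
  p := 2
  n := (nat_lit 3)
  q := (nat_lit 4)
  D := (nat_lit 2)
  W := (nat_lit 15)
  tab := (nat_lit 0x305060a0c14182e20a040a00000828000)
  L := (nat_lit 0)
  ytab := (nat_lit 0)
  gtab := (nat_lit 0)
  w := (nat_lit 14)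
  F := (nat_lit 11)
  c := (nat_lit 3)
  Btab := (nat_lit 0x4208422)
  wM := (nat_lit 3)
  Mtab := (nat_lit 0x311c1000)
  rels := [.a (nat_lit 2) (nat_lit 1) (nat_lit 1) (nat_lit 2), .a (nat_lit 2) (nat_lit 2) (nat_lit 2) (nat_lit 67),
    .a (nat_lit 3) (nat_lit 3) (nat_lit 1) (nat_lit 1)]
  a1 := (nat_lit 9)
  o1 := (nat_lit 2)
  r1 := (nat_lit 391)
  a2 := (nat_lit 4)
  o2 := (nat_lit 1)
  r2 := (nat_lit 0)
  rows := [(nat_lit 0), (nat_lit 0), (nat_lit 0), (nat_lit 0),
    (nat_lit 0), (nat_lit 0), (nat_lit 0), (nat_lit 4103),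
    (nat_lit 512), (nat_lit 1)]

noncomputable def c2_low : List (ℕ × List ℕ) :=
  [((nat_lit 0), [(nat_lit 1), (nat_lit 0)]),
    ((nat_lit 1), [(nat_lit 3), (nat_lit 0), (nat_lit 3137), (nat_lit 65)])]

noncomputable def c2_lx_ws : List ℕ := [(nat_lit 0), (nat_lit 35875), (nat_lit 99428), (nat_lit 1)]

noncomputable def c2_lx_cs : List ℕ := [fp.one,
    (nat_lit 0x101010001),
    (nat_lit 0x101111001),
    (nat_lit 0x100011001)]

theorem c2_lx : LX (SpecialLinearGroup (Fin 3) K2) 3 fp (nth c2_lx_cs) := base.words (ws := c2_lx_ws) (by decide +kernel)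

theorem c2_run : c2.runOK = true := by decide +kernel

theorem c2_nd : Nd (SpecialLinearGroup (Fin 3) K2) (2 ^ 2) :=
  c2_lx.nd (C := c2) (N := 2) (vs := (nat_lit 69889)) (l := c2_low) Nat.prime_two card
    (by decide +kernel) c2_run (by decide +kernel)

theorem ndL : NdL (ProjectiveSpecialLinearGroup (Fin 3) K2) [(2, 1), (3, 0), (7, 0)] :=
  ((NdL.nil.cyc cardQ 7).cyc cardQ 3).cons Nat.prime_two (c2_nd.ctr card cardZ 0)

/-- Inverse letters. -/
def iv : ℕ := (nat_lit 0x418820)
/-- The relators. -/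
def rels : List W := [.pow (.mul (.l 1) (.l 2)) 3, .pow (.mul (.l 2) (.l 3)) 3, .pow (.mul (.l 1) (.l 3)) 2, .pow (.mul (.l 2) (.l 4)) 3, .mul (.mul (.mul (.mul (.l 1) (.l 4)) (.l 1)) (.l 4)) (.l 3), .pow (.mul (.l 3) (.l 4)) 2]
/-- The generators. -/
def gens : List W := [.l 1, .l 2, .l 3, .l 4]

def e1_F : Tr := .leaf (nat_lit 0x154571d87714c561c4751c8741b873138511ac700a82f1a06d09c2c1184908c250dc340d8320d4301504f0cc2d1484c0c42b1404a1bc690b828134471b06612c451a8640a4241204319c6209822194611104118c60108400842000000)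
def e1_T : Tr := .leaf (nat_lit 0xbdab49ca307b9ac5a928398a418820)
def e1_P : Tr := .leaf (nat_lit 0xff800ff800ff800ff800ff800ff800ff800ff800ff800ff800ff800ff800ff800ff800ff800ff800ff800ff800ffae50e50ab002005d056801012c48d4da70020054ed180101283cccca5002014cdce80101222cc489d00200405040b2e004027891500002343820722004026060f0000224201051a004002810700002)
def e1_N_0 : Tr := .node (.node (.node (.node (.leaf (nat_lit 68224065))
  (.leaf (nat_lit 132)))
  (.leaf (nat_lit 1025)))
  (.node (.leaf (nat_lit 3277953))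
  (.leaf (nat_lit 99))))
  (.node (.node (.node (.leaf (nat_lit 99425))
  (.leaf (nat_lit 0)))
  (.leaf (nat_lit 66)))
  (.node (.leaf (nat_lit 33))
  (.leaf (nat_lit 3075))))
def e1_N_1 : Tr := .node (.node (.node (.node (.leaf (nat_lit 102860898))
  (.leaf (nat_lit 4100)))
  (.leaf (nat_lit 66)))
  (.node (.leaf (nat_lit 134275))
  (.leaf (nat_lit 99))))
  (.node (.node (.node (.leaf (nat_lit 136448130))
  (.leaf (nat_lit 0)))
  (.leaf (nat_lit 2050)))
  (.node (.leaf (nat_lit 33))
  (.leaf (nat_lit 132))))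
def e1_N : Tr := .node e1_N_0
  e1_N_1
noncomputable def e1 : TC :=
  ⟨[.l 0, .l 1, .l 2, .l 3, .l 4],
    (nat_lit 5), (nat_lit 7), (nat_lit 4294688), (nat_lit 1), (nat_lit 24), (nat_lit 0), (nat_lit 32), (nat_lit 1), (nat_lit 20),
    get (nat_lit 10) (nat_lit 0x1003010030080400c02010030080400c02010050180401806), Tr.get e1_N, get (nat_lit 20) (nat_lit 0x3ff003ff003ff003ff003ff003ff003ff003ff003ff003ff003ff003ff003ff003ff000050000400003000020000100000),
    Tr.get3 e1_F (nat_lit 20) (nat_lit 5), Tr.get3 e1_T (nat_lit 5) (nat_lit 7), Tr.get e1_P⟩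

theorem e1_head : e1.headOK rels iv = true := by decide +kernel

theorem e1_b0 : allFrom (nat_lit 0) (nat_lit 1) e1.blockOK = true := by decide +kernel

def e1_Q3 : Tr := .leaf (nat_lit 0x8d1e1407d061ba3efdb197654f371e605940e38506)
theorem e1_f3_0 : allFrom (nat_lit 0) (nat_lit 24) (e1.finOK (nat_lit 24) (Tr.get3 e1_Q3 (nat_lit 7) (nat_lit 7)) (nat_lit 3)) = true := by
  decide +kernel

def e1_Q2 : Tr := .leaf (nat_lit 0x91124a98a95e2150f4da42e8191134ccb092014404)
theorem e1_f2_0 : allFrom (nat_lit 0) (nat_lit 24) (e1.finOK (nat_lit 24) (Tr.get3 e1_Q2 (nat_lit 7) (nat_lit 7)) (nat_lit 2)) = true := by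
  decide +kernel

def e1_Q1 : Tr := .leaf (nat_lit 0xbedaee9ec8eae1d9b48b94dcd4dc12c4c0c2)
theorem e1_f1_0 : allFrom (nat_lit 0) (nat_lit 24) (e1.finOK (nat_lit 24) (Tr.get3 e1_Q1 (nat_lit 6) (nat_lit 7)) (nat_lit 1)) = true := by
  decide +kernel

theorem e1_blocks : ∀ t < e1.k, e1.blockOK t = true :=
  (of_allFrom_append of_lt_zero e1_b0)

/-- index 24 max 24 total 24 facts 37 | needed cosets 24 facts 37 steps 53 trivial 0 -/
theorem e1_index {G : Type*} [Group G] {γ : ℕ → G} (hL : Lab γ iv) (hr : ∀ t ∈ rels, t.ev γ = 1) {K : Subgroup G}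
    (hK : ∀ t ∈ ([] : List W), t.ev γ ∈ K) :
    K.relIndex (genW γ [.l 1, .l 2, .l 3]) ≠ 0 ∧ K.relIndex (genW γ [.l 1, .l 2, .l 3]) ≤ 24 :=
  TC.relIndex_le (D := e1) (gens := [1, 2, 3]) hL (List.forall_mem_cons.2 ⟨hL.zero_mem K, hK⟩) hr e1_head e1_blocks (by decide) (by decide)
   (List.forall_mem_cons.2 ⟨⟨_, (of_allFrom_append of_lt_zero e1_f1_0)⟩,
    List.forall_mem_cons.2 ⟨⟨_, (of_allFrom_append of_lt_zero e1_f2_0)⟩,
    List.forall_mem_cons.2 ⟨⟨_, (of_allFrom_append of_lt_zero e1_f3_0)⟩,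
    fun _ h => absurd h List.not_mem_nil⟩⟩⟩)

def e0_F : Tr := .leaf (nat_lit 0x26261e1e0e0e23250c0d14142424131322220909191918181010080816151d1b1c1a0b0a121121200000)
def e0_T : Tr := .leaf (nat_lit 1754760)
def e0_P : Tr := .leaf (nat_lit 0x3fe003fe003fe003fe003fe003fe003fe003fe003fe003fe003fe003fe003fe003fe003fe003fe003fe003fe003fe003fe003fe3119b44340080c60a362c6801008c427d00d00000427100a00604141848000108085428900001106448010286085c2870020008088830a004060879306008080898300005)
def e0_N_0 : Tr := .node (.node (.node (.node (.leaf (nat_lit 68224065))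
  (.leaf (nat_lit 132)))
  (.leaf (nat_lit 1025)))
  (.node (.leaf (nat_lit 3277953))
  (.leaf (nat_lit 99))))
  (.node (.node (.node (.leaf (nat_lit 99425))
  (.leaf (nat_lit 0)))
  (.leaf (nat_lit 66)))
  (.node (.leaf (nat_lit 33))
  (.leaf (nat_lit 3075))))
def e0_N_1 : Tr := .node (.node (.node (.node (.leaf (nat_lit 102860898))
  (.leaf (nat_lit 4100)))
  (.leaf (nat_lit 66)))
  (.node (.leaf (nat_lit 134275))
  (.leaf (nat_lit 99))))
  (.node (.node (.node (.leaf (nat_lit 136448130))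
  (.leaf (nat_lit 0)))
  (.leaf (nat_lit 2050)))
  (.node (.leaf (nat_lit 33))
  (.leaf (nat_lit 132))))
def e0_N : Tr := .node e0_N_0
  e0_N_1
noncomputable def e0 : TC :=
  ⟨[.l 0, .l 1, .l 2, .l 3, .l 4],
    (nat_lit 3), (nat_lit 7), (nat_lit 4294688), (nat_lit 15), (nat_lit 7), (nat_lit 3), (nat_lit 32), (nat_lit 1), (nat_lit 20),
    get (nat_lit 10) (nat_lit 0x1003010030080400c02010030080400c02010050180401806), Tr.get e0_N, get (nat_lit 20) (nat_lit 0x3ff003ff003ff003ff003ff003ff003ff003ff003ff003ff003ff003ff003ff003ff000050000400003000020000100000),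
    Tr.get3 e0_F (nat_lit 16) (nat_lit 5), Tr.get3 e0_T (nat_lit 3) (nat_lit 8), Tr.get e0_P⟩

theorem e0_head : e0.headOK rels iv = true := by decide +kernel

theorem e0_b0 : allFrom (nat_lit 0) (nat_lit 1) e0.blockOK = true := by decide +kernel

def e0_Q4 : Tr := .leaf (nat_lit 2785765327042)
theorem e0_f4_0 : allFrom (nat_lit 0) (nat_lit 7) (e0.finOK (nat_lit 7) (Tr.get3 e0_Q4 (nat_lit 6) (nat_lit 7)) (nat_lit 4)) = true := by
  decide +kernel

def e0_Q3 : Tr := .leaf (nat_lit 2623304926482)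
theorem e0_f3_0 : allFrom (nat_lit 0) (nat_lit 7) (e0.finOK (nat_lit 7) (Tr.get3 e0_Q3 (nat_lit 6) (nat_lit 7)) (nat_lit 3)) = true := by
  decide +kernel

def e0_Q2 : Tr := .leaf (nat_lit 14393611408)
theorem e0_f2_0 : allFrom (nat_lit 0) (nat_lit 7) (e0.finOK (nat_lit 7) (Tr.get3 e0_Q2 (nat_lit 5) (nat_lit 7)) (nat_lit 2)) = true := by
  decide +kernel

def e0_Q1 : Tr := .leaf (nat_lit 2508816409998)
theorem e0_f1_0 : allFrom (nat_lit 0) (nat_lit 7) (e0.finOK (nat_lit 7) (Tr.get3 e0_Q1 (nat_lit 6) (nat_lit 7)) (nat_lit 1)) = true := by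
  decide +kernel

theorem e0_blocks : ∀ t < e0.k, e0.blockOK t = true :=
  (of_allFrom_append of_lt_zero e0_b0)

/-- index 7 max 7 total 7 facts 21 | needed cosets 7 facts 21 steps 47 trivial 0 -/
theorem e0_index {G : Type*} [Group G] {γ : ℕ → G} (hL : Lab γ iv) (hr : ∀ t ∈ rels, t.ev γ = 1) {K : Subgroup G}
    (hK : ∀ t ∈ ([.l 1, .l 2, .l 3] : List W), t.ev γ ∈ K) :
    K.relIndex (genW γ [.l 1, .l 2, .l 3, .l 4]) ≠ 0 ∧ K.relIndex (genW γ [.l 1, .l 2, .l 3, .l 4]) ≤ 7 :=
  TC.relIndex_le (D := e0) (gens := [1, 2, 3, 4]) hL (List.forall_mem_cons.2 ⟨hL.zero_mem K, hK⟩) hr e0_head e0_blocks (by decide) (by decide)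
   (List.forall_mem_cons.2 ⟨⟨_, (of_allFrom_append of_lt_zero e0_f1_0)⟩,
    List.forall_mem_cons.2 ⟨⟨_, (of_allFrom_append of_lt_zero e0_f2_0)⟩,
    List.forall_mem_cons.2 ⟨⟨_, (of_allFrom_append of_lt_zero e0_f3_0)⟩,
    List.forall_mem_cons.2 ⟨⟨_, (of_allFrom_append of_lt_zero e0_f4_0)⟩,
    fun _ h => absurd h List.not_mem_nil⟩⟩⟩⟩)

theorem tcb : TCB.{u} iv rels gens 168 := fun _ _ _ hL hr =>
  card_le_of_relIndex (genW_mono _ (by simp)) (e0_index hL hr fun _ => mem_genW _)
    (card_le_of_relIndex bot_le (e1_index hL hr (by simp)) card_bot_le)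

noncomputable def lx_ws : List ℕ := [(nat_lit 0), (nat_lit 36), (nat_lit 99459), (nat_lit 4),
    (nat_lit 69700)]

noncomputable def lx_cs : List ℕ := [fp.one,
    (nat_lit 0x100111001),
    (nat_lit 0x11101001),
    (nat_lit 0x100110001),
    (nat_lit 0x100010101)]

theorem lx : LX (SpecialLinearGroup (Fin 3) K2) 4 fp (nth lx_cs) := base.words (ws := lx_ws) (by decide +kernel)

/-- Words for the lower bound. -/
def low : List (ℕ × List ℕ) := [((nat_lit 0), [(nat_lit 0), (nat_lit 130), (nat_lit 133155), (nat_lit 0x410462), (nat_lit 4), (nat_lit 4163), (nat_lit 4161)]),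
    ((nat_lit 1), [(nat_lit 35), (nat_lit 0), (nat_lit 2), (nat_lit 1122), (nat_lit 1), (nat_lit 3)]),
    ((nat_lit 2), [(nat_lit 2146), (nat_lit 1089), (nat_lit 66658), (nat_lit 0)])]

/-- The relators of the quotient. -/
def relq : List W := .l 0 :: rels

theorem pr : ∃ γ : ℕ → (SpecialLinearGroup (Fin 3) K2) ⧸ center (SpecialLinearGroup (Fin 3) K2), Pr γ iv relq :=
  lx.prq (N := 3) (vs := (nat_lit 0x111011001)) (l := low) card tcb (by decide +kernel) cardZ (by decide +kernel)

/-- The engine. -/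
noncomputable def dE : ME := meP ⟨5, 16, 8, 205, 10⟩
/-- A letter. -/
def dc1 : ℕ := (nat_lit 0x4000000000000000000000000000000000000000100000000000000000000000000040000000000000004000000000000000000000000000000000000000400000000000000000000000000010000000000000000000000000000000000000000000000000000000100000000000000000000000000010000)
/-- A letter. -/
def dc2 : ℕ := (nat_lit 0x4000000000000000000000000000000000004000000000000000000000000000000000000000100000004000000000000000000000000000000000004000000000000000000000000000000000000000000000000000000010000000000010000000000000000000000000000000000000000000100000000)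
/-- A letter. -/
def dc3 : ℕ := (nat_lit 0x10000000000000000000000010000000000000000000000000000000000000000000100000000000100000000000000000000000000000000000000000000000000000001000100000000000000000000000000000000000000010000000000000000000000000000000000000001000000000000)
/-- A letter. -/
def dc4 : ℕ := (nat_lit 0x20000000000000000000000000000000000000004000000000000000300000000000000000000000000000000000000000000000000000000000100000004000000000000000000000000000000000000000000000000000300000000000000000000000000020000000000000000000000010000000000000000)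
/-- The letters. -/
def dcs : List ℕ := [dc1, dc2, dc3, dc4]
/-- The values of the relators. -/
noncomputable def dzs : List ℕ := [(Nat.mul (nat_lit 1) dE.s0),
    (Nat.mul (nat_lit 2) dE.s0),
    (Nat.mul (nat_lit 4) dE.s0)]

theorem d1 : dE.letOK iv dcs dzs = true := by decide +kernel
theorem d2 : dE.relsOK iv dcs dzs relq = true := by decide +kernel

theorem dlb {γ : ℕ → (ProjectiveSpecialLinearGroup (Fin 3) K2)} (P : Pr γ iv relq) : Lb (ProjectiveSpecialLinearGroup (Fin 3) K2) (Multiplicative (ZMod 2)) :=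
  P.cyc (meP_ok (by decide +kernel)) d1 d2 (t := .pow (.mul (.l 1) (.l 3)) 2)
    (x := (Nat.mul (nat_lit 4) dE.s0)) (by decide +kernel)

end Cfsg.Lib.Mult.L32
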