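import Cfsg.Agent.Lib.Mult.Pres
import Cfsg.Agent.Lib.Mult.Mathieu

/-! # The cover `2.M₁₂` (generated) -/

set_option autoImplicit false
set_option maxRecDepth 100000
set_option maxHeartbeats 0

namespace Cfsg.Lib.Mult.M12

open Cfsg.Lib.Calc Cfsg.Lib.Mathieu Cfsg.Lib.Golay Cfsg.Lib.Mult.Mathieu

universe u

/-- Inverse letters. -/
def iv : ℕ := (nat_lit 0x18a418820)
/-- The relators. -/
def rels : List W := [.pow (.mul (.l 1) (.l 3)) 5, .pow (.mul (.mul (.l 2) (.l 3)) (.l 1)) 3, .pow (.mul (.l 1) (.l 2)) 3, .pow (.mul (.l 2) (.l 3)) 3, .mul (.mul (.mul (.mul (.mul (.l 2) (.l 1)) (.l 4)) (.l 2)) (.l 4)) (.l 1), .pow (.mul (.l 3) (.l 4)) 3, .pow (.mul (.l 1) (.l 4)) 2, .pow (.mul (.l 2) (.l 5)) 3, .pow (.mul (.mul (.l 2) (.l 1)) (.l 5)) 2, .pow (.mul (.l 3) (.l 5)) 2, .pow (.mul (.l 4) (.l 5)) 2, .mul (.mul (.mul (.mul (.mul (.mul (.mul (.l 3) (.l 5)) (.l 6)) (.l 2)) (.l 5)) (.l 3)) (.l 6)) (.l 2), .pow (.mul (.l 5) (.l 6)) 3, .mul (.mul (.mul (.mul (.l 1) (.l 6)) (.l 1)) (.l 6)) (.l 4), .pow (.mul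 (.l 4) (.l 6)) 2]
/-- The generators. -/
def gens : List W := [.l 1, .l 2, .l 3, .l 4, .l 5, .l 6]

def e3_F : Tr := .leaf (nat_lit 0x7b0fb15a2ec3d06d1de3e8758f90e21e47a0f815e2e03b87416a2dc538b61dc3d4710f30d81cc3807214c2c8588a41d03c04f0ae1ce3b0708ea0ca1a44c8a81b6394518950b61804989f1b2370668d61923404308a0f61ac5d0aa1722a43c0661ee3903b0630ea1885a0a1166280790df1e23785809d0de1743705c1da3685609a156260350581d235c340570ce158730d514a250320541c634c510920c2148700d10be1442f0501ba33c4e08f1362382d04e0b21346c0cc12e2304b08b0aa12c6a0ca0a6124690c81222204808709e11c670c611a214260451963102504411220c2404318e3082304218a304420811863004108008210000000)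
def e3_T : Tr := .leaf (nat_lit 0xefae78df6d74cf2c70beeb6caeaa689e69648e28607de75c6da6585d65544d24503ce34c2ca2481c61440c2040)
def e3_P : Tr := .leaf (nat_lit 0x1ff76acab623c7b27476d0020076565575b0002025a599a9d44438c7500401748d69a8a70020372522e315700203728b4a499500002704c2a161529496fa400200709699605f002026842456ba2000026e9562909e000036c842a2d4f002026a9c9b8f4e7d337e5d002006640222545002036683363559000026481267a201f3b6100401648147844d000034828790c0f213d6300001603a397f88002035c381e213d0020258341c7814172d4f002015430180a020711254300200522e180a0915294b00401502e181b33002024a28791d37002032a160802071327470000140221006050d1d37004013e2210132700202381e0e04030b1b33002012c16080b1b00203200e04071300203140802050d00202)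
def e3_N_0 : Tr := .node (.node (.node (.node (.leaf (nat_lit 106756882662497))
  (.leaf (nat_lit 6150)))
  (.leaf (nat_lit 33)))
  (.node (.leaf (nat_lit 168891426))
  (.leaf (nat_lit 132))))
  (.node (.node (.leaf (nat_lit 37818402))
  (.leaf (nat_lit 2050)))
  (.node (.leaf (nat_lit 206771397))
  (.leaf (nat_lit 165))))
def e3_N_1 : Tr := .node (.node (.node (.node (.leaf (nat_lit 68224065))
  (.leaf (nat_lit 0)))
  (.leaf (nat_lit 66)))
  (.node (.leaf (nat_lit 168100))
  (.leaf (nat_lit 4100))))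
  (.node (.node (.leaf (nat_lit 132225))
  (.leaf (nat_lit 99)))
  (.node (.leaf (nat_lit 200900))
  (.leaf (nat_lit 198))))
def e3_N_2 : Tr := .node (.node (.node (.node (.leaf (nat_lit 1204775093346))
  (.leaf (nat_lit 0)))
  (.leaf (nat_lit 1025)))
  (.node (.leaf (nat_lit 167075))
  (.leaf (nat_lit 132))))
  (.node (.node (.leaf (nat_lit 137497731))
  (.leaf (nat_lit 99)))
  (.node (.leaf (nat_lit 4392129))
  (.leaf (nat_lit 5125))))
def e3_N : Tr := .node (.node e3_N_0
  e3_N_1)
  (.node e3_N_2
  (.node (.node (.node (.leaf (nat_lit 102860898))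
  (.leaf (nat_lit 66)))
  (.node (.leaf (nat_lit 75267905699))
  (.leaf (nat_lit 165))))
  (.node (.node (.leaf (nat_lit 170035362))
  (.leaf (nat_lit 3075)))
  (.node (.leaf (nat_lit 33))
  (.leaf (nat_lit 198))))))
noncomputable def e3 : TC :=
  ⟨[.l 0, .l 1, .l 2, .l 3, .l 4, .l 5, .l 6],
    (nat_lit 6), (nat_lit 8), (nat_lit 6614517792), (nat_lit 1), (nat_lit 60), (nat_lit 0), (nat_lit 32), (nat_lit 1), (nat_lit 35),
    get (nat_lit 10) (nat_lit 0x400c0400c02010030080400c02010030080400c0201003008040140602004010060180401806018060240a), Tr.get e3_N, get (nat_lit 20) (nat_lit 0x3ff003ff003ff003ff003ff003ff003ff003ff003ff003ff003ff003ff003ff003ff003ff003ff003ff003ff003ff003ff0000e0000d0000c0000b0000a00009000080000700006000050000400003000020000100000),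
    Tr.get3 e3_F (nat_lit 22) (nat_lit 5), Tr.get3 e3_T (nat_lit 6) (nat_lit 7), Tr.get e3_P⟩

theorem e3_head : e3.headOK rels iv = true := by decide +kernel

theorem e3_b0 : allFrom (nat_lit 0) (nat_lit 1) e3.blockOK = true := by decide +kernel

def e3_Q3 : Tr := .leaf (nat_lit 0xb4aeaca86fb59ea99c656392af9f5b8ead8c53938f4d866e479d8d4164623b7e875a7f31527c4c294625407a3a1d7d3017287b240f1c0b16070e0a06)
theorem e3_f3_0 : allFrom (nat_lit 0) (nat_lit 60) (e3.finOK (nat_lit 60) (Tr.get3 e3_Q3 (nat_lit 8) (nat_lit 6)) (nat_lit 3)) = true := by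
  decide +kernel

def e3_Q2 : Tr := .leaf (nat_lit 0xb27573a6a2a0a36967969561a790b35957747288a1974b948545686680916039375889562f2d844a8144232138361b2e2c78132220791a0912050804)
theorem e3_f2_0 : allFrom (nat_lit 0) (nat_lit 60) (e3.finOK (nat_lit 60) (Tr.get3 e3_Q2 (nat_lit 8) (nat_lit 6)) (nat_lit 2)) = true := by
  decide +kernel

def e3_Q1 : Tr := .leaf (nat_lit 0x77b1aa71a56d6ba49a98ab995f5db09b76558a514f708b496c6a43823f3d5e5c83353354504e2b4827423e3c1f3432192a1526111e0d1814100c0302)
theorem e3_f1_0 : allFrom (nat_lit 0) (nat_lit 60) (e3.finOK (nat_lit 60) (Tr.get3 e3_Q1 (nat_lit 8) (nat_lit 6)) (nat_lit 1)) = true := by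
  decide +kernel

theorem e3_blocks : ∀ t < e3.k, e3.blockOK t = true :=
  (of_allFrom_append of_lt_zero e3_b0)

/-- index 60 max 60 total 60 facts 91 | needed cosets 60 facts 91 steps 195 trivial 0 -/
theorem e3_index {G : Type*} [Group G] {γ : ℕ → G} (hL : Lab γ iv) (hr : ∀ t ∈ rels, t.ev γ = 1) {K : Subgroup G}
    (hK : ∀ t ∈ ([] : List W), t.ev γ ∈ K) :
    K.relIndex (genW γ [.l 1, .l 2, .l 3]) ≠ 0 ∧ K.relIndex (genW γ [.l 1, .l 2, .l 3]) ≤ 60 :=
  TC.relIndex_le (D := e3) (gens := [1, 2, 3]) hL (List.forall_mem_cons.2 ⟨hL.zero_mem K, hK⟩) hr e3_head e3_blocks (by decide) (by decide)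
   (List.forall_mem_cons.2 ⟨⟨_, (of_allFrom_append of_lt_zero e3_f1_0)⟩,
    List.forall_mem_cons.2 ⟨⟨_, (of_allFrom_append of_lt_zero e3_f2_0)⟩,
    List.forall_mem_cons.2 ⟨⟨_, (of_allFrom_append of_lt_zero e3_f3_0)⟩,
    fun _ h => absurd h List.not_mem_nil⟩⟩⟩)

def e2_F : Tr := .leaf (nat_lit 0x924625128341a148a4703a1c8e450270a8606e352291c68342190c8442108842211180c040200804054260c85890440b8506c331288c4822098486431209000000)
def e2_T : Tr := .leaf (nat_lit 11649936536080)
def e2_P : Tr := .leaf (nat_lit 0x3fe003fe003fe003fe003fe003fe003fe003fe003fe003fe003fe003fe003fe003fe003fe003fe003fe55b35284c0201189048458001029426c89150000224305aa60509af0000128305a95a004064860608742871a4c008007080e2d500101101e9c000185060878e05123c008047080e8c58020208087c289002030c8438010304046c18500205045cc970600c0808b8300006)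
def e2_N_0 : Tr := .node (.node (.node (.node (.leaf (nat_lit 106756882662497))
  (.leaf (nat_lit 6150)))
  (.leaf (nat_lit 33)))
  (.node (.leaf (nat_lit 168891426))
  (.leaf (nat_lit 132))))
  (.node (.node (.leaf (nat_lit 37818402))
  (.leaf (nat_lit 2050)))
  (.node (.leaf (nat_lit 206771397))
  (.leaf (nat_lit 165))))
def e2_N_1 : Tr := .node (.node (.node (.node (.leaf (nat_lit 68224065))
  (.leaf (nat_lit 0)))
  (.leaf (nat_lit 66)))
  (.node (.leaf (nat_lit 168100))
  (.leaf (nat_lit 4100))))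
  (.node (.node (.leaf (nat_lit 132225))
  (.leaf (nat_lit 99)))
  (.node (.leaf (nat_lit 200900))
  (.leaf (nat_lit 198))))
def e2_N_2 : Tr := .node (.node (.node (.node (.leaf (nat_lit 1204775093346))
  (.leaf (nat_lit 0)))
  (.leaf (nat_lit 1025)))
  (.node (.leaf (nat_lit 167075))
  (.leaf (nat_lit 132))))
  (.node (.node (.leaf (nat_lit 137497731))
  (.leaf (nat_lit 99)))
  (.node (.leaf (nat_lit 4392129))
  (.leaf (nat_lit 5125))))
def e2_N : Tr := .node (.node e2_N_0
  e2_N_1)
  (.node e2_N_2
  (.node (.node (.node (.leaf (nat_lit 102860898))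
  (.leaf (nat_lit 66)))
  (.node (.leaf (nat_lit 75267905699))
  (.leaf (nat_lit 165))))
  (.node (.node (.leaf (nat_lit 170035362))
  (.leaf (nat_lit 3075)))
  (.node (.leaf (nat_lit 33))
  (.leaf (nat_lit 198))))))
noncomputable def e2 : TC :=
  ⟨[.l 0, .l 1, .l 2, .l 3, .l 4, .l 5, .l 6],
    (nat_lit 4), (nat_lit 7), (nat_lit 6614517792), (nat_lit 15), (nat_lit 11), (nat_lit 3), (nat_lit 32), (nat_lit 1), (nat_lit 35),
    get (nat_lit 10) (nat_lit 0x400c0400c02010030080400c02010030080400c0201003008040140602004010060180401806018060240a), Tr.get e2_N, get (nat_lit 20) (nat_lit 0x3ff003ff003ff003ff003ff003ff003ff003ff003ff003ff003ff003ff003ff003ff003ff003ff003ff003ff003ff003ff0000e0000d0000c0000b0000a00009000080000700006000050000400003000020000100000),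
    Tr.get3 e2_F (nat_lit 18) (nat_lit 5), Tr.get3 e2_T (nat_lit 4) (nat_lit 7), Tr.get e2_P⟩

theorem e2_head : e2.headOK rels iv = true := by decide +kernel

theorem e2_b0 : allFrom (nat_lit 0) (nat_lit 1) e2.blockOK = true := by decide +kernel

def e2_Q4 : Tr := .leaf (nat_lit 0x36e519b89d08a00c2)
theorem e2_f4_0 : allFrom (nat_lit 0) (nat_lit 11) (e2.finOK (nat_lit 11) (Tr.get3 e2_Q4 (nat_lit 6) (nat_lit 7)) (nat_lit 4)) = true := by
  decide +kernel

def e2_Q3 : Tr := .leaf (nat_lit 0x30bb1a4da2430511a)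
theorem e2_f3_0 : allFrom (nat_lit 0) (nat_lit 11) (e2.finOK (nat_lit 11) (Tr.get3 e2_Q3 (nat_lit 6) (nat_lit 7)) (nat_lit 3)) = true := by
  decide +kernel

def e2_Q2 : Tr := .leaf (nat_lit 0x15cadb142c9288798)
theorem e2_f2_0 : allFrom (nat_lit 0) (nat_lit 11) (e2.finOK (nat_lit 11) (Tr.get3 e2_Q2 (nat_lit 6) (nat_lit 7)) (nat_lit 2)) = true := by
  decide +kernel

def e2_Q1 : Tr := .leaf (nat_lit 0x344ea3d2ace1c6716)
theorem e2_f1_0 : allFrom (nat_lit 0) (nat_lit 11) (e2.finOK (nat_lit 11) (Tr.get3 e2_Q1 (nat_lit 6) (nat_lit 7)) (nat_lit 1)) = true := by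
  decide +kernel

theorem e2_blocks : ∀ t < e2.k, e2.blockOK t = true :=
  (of_allFrom_append of_lt_zero e2_b0)

/-- index 11 max 11 total 11 facts 29 | needed cosets 11 facts 29 steps 79 trivial 0 -/
theorem e2_index {G : Type*} [Group G] {γ : ℕ → G} (hL : Lab γ iv) (hr : ∀ t ∈ rels, t.ev γ = 1) {K : Subgroup G}
    (hK : ∀ t ∈ ([.l 1, .l 2, .l 3] : List W), t.ev γ ∈ K) :
    K.relIndex (genW γ [.l 1, .l 2, .l 3, .l 4]) ≠ 0 ∧ K.relIndex (genW γ [.l 1, .l 2, .l 3, .l 4]) ≤ 11 :=
  TC.relIndex_le (D := e2) (gens := [1, 2, 3, 4]) hL (List.forall_mem_cons.2 ⟨hL.zero_mem K, hK⟩) hr e2_head e2_blocks (by decide) (by decide)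
   (List.forall_mem_cons.2 ⟨⟨_, (of_allFrom_append of_lt_zero e2_f1_0)⟩,
    List.forall_mem_cons.2 ⟨⟨_, (of_allFrom_append of_lt_zero e2_f2_0)⟩,
    List.forall_mem_cons.2 ⟨⟨_, (of_allFrom_append of_lt_zero e2_f3_0)⟩,
    List.forall_mem_cons.2 ⟨⟨_, (of_allFrom_append of_lt_zero e2_f4_0)⟩,
    fun _ h => absurd h List.not_mem_nil⟩⟩⟩⟩)

def e1_F : Tr := .leaf (nat_lit 0xb65b2592c763b0d86c341924928542a2c968ae582312030181389c2a172b15068360b0586a352a95446232994ca452110848442209046231201006030100802010158a474381c8dc5025239104c242290c2813198c82411289400000)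
def e1_T : Tr := .leaf (nat_lit 205163983024656)
def e1_P : Tr := .leaf (nat_lit 0xff800ff800ff800ff800ff800ff800ff96851619700207945a4c72e008085893b265c0080cb498b20b800011274e58117856280200947ed47930020528418912a00006520930020978417b87600810f08381c340101083876e48800010e10b448f006041c205800030858a848d0040818203260a1d6890020118216891a00004283250e2c0001452b1600414193214e1c0000c3290e004129811b069c0081c118340c2800040446140081811f060001408e8300009)
def e1_N_0 : Tr := .node (.node (.node (.node (.leaf (nat_lit 106756882662497))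
  (.leaf (nat_lit 6150)))
  (.leaf (nat_lit 33)))
  (.node (.leaf (nat_lit 168891426))
  (.leaf (nat_lit 132))))
  (.node (.node (.leaf (nat_lit 37818402))
  (.leaf (nat_lit 2050)))
  (.node (.leaf (nat_lit 206771397))
  (.leaf (nat_lit 165))))
def e1_N_1 : Tr := .node (.node (.node (.node (.leaf (nat_lit 68224065))
  (.leaf (nat_lit 0)))
  (.leaf (nat_lit 66)))
  (.node (.leaf (nat_lit 168100))
  (.leaf (nat_lit 4100))))
  (.node (.node (.leaf (nat_lit 132225))
  (.leaf (nat_lit 99)))
  (.node (.leaf (nat_lit 200900))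
  (.leaf (nat_lit 198))))
def e1_N_2 : Tr := .node (.node (.node (.node (.leaf (nat_lit 1204775093346))
  (.leaf (nat_lit 0)))
  (.leaf (nat_lit 1025)))
  (.node (.leaf (nat_lit 167075))
  (.leaf (nat_lit 132))))
  (.node (.node (.leaf (nat_lit 137497731))
  (.leaf (nat_lit 99)))
  (.node (.leaf (nat_lit 4392129))
  (.leaf (nat_lit 5125))))
def e1_N : Tr := .node (.node e1_N_0
  e1_N_1)
  (.node e1_N_2
  (.node (.node (.node (.leaf (nat_lit 102860898))
  (.leaf (nat_lit 66)))
  (.node (.leaf (nat_lit 75267905699))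
  (.leaf (nat_lit 165))))
  (.node (.node (.leaf (nat_lit 170035362))
  (.leaf (nat_lit 3075)))
  (.node (.leaf (nat_lit 33))
  (.leaf (nat_lit 198))))))
noncomputable def e1 : TC :=
  ⟨[.l 0, .l 1, .l 2, .l 3, .l 4, .l 5, .l 6],
    (nat_lit 4), (nat_lit 7), (nat_lit 6614517792), (nat_lit 31), (nat_lit 12), (nat_lit 4), (nat_lit 32), (nat_lit 1), (nat_lit 35),
    get (nat_lit 10) (nat_lit 0x400c0400c02010030080400c02010030080400c0201003008040140602004010060180401806018060240a), Tr.get e1_N, get (nat_lit 20) (nat_lit 0x3ff003ff003ff003ff003ff003ff003ff003ff003ff003ff003ff003ff003ff003ff003ff003ff003ff003ff003ff003ff0000e0000d0000c0000b0000a00009000080000700006000050000400003000020000100000),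
    Tr.get3 e1_F (nat_lit 18) (nat_lit 5), Tr.get3 e1_T (nat_lit 4) (nat_lit 7), Tr.get e1_P⟩

theorem e1_head : e1.headOK rels iv = true := by decide +kernel

theorem e1_b0 : allFrom (nat_lit 0) (nat_lit 1) e1.blockOK = true := by decide +kernel

def e1_Q5 : Tr := .leaf (nat_lit 0xa10a1c082dd73654a0182)
theorem e1_f5_0 : allFrom (nat_lit 0) (nat_lit 12) (e1.finOK (nat_lit 12) (Tr.get3 e1_Q5 (nat_lit 7) (nat_lit 7)) (nat_lit 5)) = true := by
  decide +kernel

def e1_Q4 : Tr := .leaf (nat_lit 0x9d1a3be1efc58e149111e)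
theorem e1_f4_0 : allFrom (nat_lit 0) (nat_lit 12) (e1.finOK (nat_lit 12) (Tr.get3 e1_Q4 (nat_lit 7) (nat_lit 7)) (nat_lit 4)) = true := by
  decide +kernel

def e1_Q3 : Tr := .leaf (nat_lit 0x985499424d18350e1901c)
theorem e1_f3_0 : allFrom (nat_lit 0) (nat_lit 12) (e1.finOK (nat_lit 12) (Tr.get3 e1_Q3 (nat_lit 7) (nat_lit 7)) (nat_lit 3)) = true := by
  decide +kernel

def e1_Q2 : Tr := .leaf (nat_lit 0x2f10b11743480c589d31a)
theorem e1_f2_0 : allFrom (nat_lit 0) (nat_lit 12) (e1.finOK (nat_lit 12) (Tr.get3 e1_Q2 (nat_lit 7) (nat_lit 7)) (nat_lit 2)) = true := by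
  decide +kernel

def e1_Q1 : Tr := .leaf (nat_lit 0x952643c70c9c891014218)
theorem e1_f1_0 : allFrom (nat_lit 0) (nat_lit 12) (e1.finOK (nat_lit 12) (Tr.get3 e1_Q1 (nat_lit 7) (nat_lit 7)) (nat_lit 1)) = true := by
  decide +kernel

theorem e1_blocks : ∀ t < e1.k, e1.blockOK t = true :=
  (of_allFrom_append of_lt_zero e1_b0)

/-- index 12 max 12 total 12 facts 41 | needed cosets 12 facts 41 steps 117 trivial 0 -/
theorem e1_index {G : Type*} [Group G] {γ : ℕ → G} (hL : Lab γ iv) (hr : ∀ t ∈ rels, t.ev γ = 1) {K : Subgroup G}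
    (hK : ∀ t ∈ ([.l 1, .l 2, .l 3, .l 4] : List W), t.ev γ ∈ K) :
    K.relIndex (genW γ [.l 1, .l 2, .l 3, .l 4, .l 5]) ≠ 0 ∧ K.relIndex (genW γ [.l 1, .l 2, .l 3, .l 4, .l 5]) ≤ 12 :=
  TC.relIndex_le (D := e1) (gens := [1, 2, 3, 4, 5]) hL (List.forall_mem_cons.2 ⟨hL.zero_mem K, hK⟩) hr e1_head e1_blocks (by decide) (by decide)
   (List.forall_mem_cons.2 ⟨⟨_, (of_allFrom_append of_lt_zero e1_f1_0)⟩,
    List.forall_mem_cons.2 ⟨⟨_, (of_allFrom_append of_lt_zero e1_f2_0)⟩,
    List.forall_mem_cons.2 ⟨⟨_, (of_allFrom_append of_lt_zero e1_f3_0)⟩,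
    List.forall_mem_cons.2 ⟨⟨_, (of_allFrom_append of_lt_zero e1_f4_0)⟩,
    List.forall_mem_cons.2 ⟨⟨_, (of_allFrom_append of_lt_zero e1_f5_0)⟩,
    fun _ h => absurd h List.not_mem_nil⟩⟩⟩⟩⟩)

def e0_F : Tr := .leaf (nat_lit 0x4c261b0d8562b1d8e8b65b0d86c8c4b2d168522a351a8944a1c8e4d2692a96430192b1588e483198cd0672b9606e381209c2c161a8d4844512894c86422110643429948221120904a0502010060301008020103599434142490c50230b84ccc620a848a851198c44421309800000)
def e0_T : Tr := .leaf (nat_lit 205163983024656)
def e0_P : Tr := .leaf (nat_lit 0x18a04051b0af00705d4b536dd500005b5465d0b6000074644a8eb8bd90000b2d1a4c72e00018585302e0081a5988d0000e28d9d44a00081051b0e231000808a2b5a5400834a2b2a0040c483230e4c0001493f260041c493300020a243e0000030c4ef930d0000c7839f0f0080d0c25b3d76e0800605ba72dd6294e440102c8260825b00103900c15436002031c1828b66bc52800001182d88d0040d62a1529600000a282254614010105044a145801010804841890020c108c480005080e98000242024070d030e0101608c9f060081a08f830000e)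
def e0_N_0 : Tr := .node (.node (.node (.node (.leaf (nat_lit 106756882662497))
  (.leaf (nat_lit 6150)))
  (.leaf (nat_lit 33)))
  (.node (.leaf (nat_lit 168891426))
  (.leaf (nat_lit 132))))
  (.node (.node (.leaf (nat_lit 37818402))
  (.leaf (nat_lit 2050)))
  (.node (.leaf (nat_lit 206771397))
  (.leaf (nat_lit 165))))
def e0_N_1 : Tr := .node (.node (.node (.node (.leaf (nat_lit 68224065))
  (.leaf (nat_lit 0)))
  (.leaf (nat_lit 66)))
  (.node (.leaf (nat_lit 168100))
  (.leaf (nat_lit 4100))))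
  (.node (.node (.leaf (nat_lit 132225))
  (.leaf (nat_lit 99)))
  (.node (.leaf (nat_lit 200900))
  (.leaf (nat_lit 198))))
def e0_N_2 : Tr := .node (.node (.node (.node (.leaf (nat_lit 1204775093346))
  (.leaf (nat_lit 0)))
  (.leaf (nat_lit 1025)))
  (.node (.leaf (nat_lit 167075))
  (.leaf (nat_lit 132))))
  (.node (.node (.leaf (nat_lit 137497731))
  (.leaf (nat_lit 99)))
  (.node (.leaf (nat_lit 4392129))
  (.leaf (nat_lit 5125))))
def e0_N : Tr := .node (.node e0_N_0
  e0_N_1)
  (.node e0_N_2
  (.node (.node (.node (.leaf (nat_lit 102860898))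
  (.leaf (nat_lit 66)))
  (.node (.leaf (nat_lit 75267905699))
  (.leaf (nat_lit 165))))
  (.node (.node (.leaf (nat_lit 170035362))
  (.leaf (nat_lit 3075)))
  (.node (.leaf (nat_lit 33))
  (.leaf (nat_lit 198))))))
noncomputable def e0 : TC :=
  ⟨[.l 0, .l 1, .l 2, .l 3, .l 4, .l 5, .l 6],
    (nat_lit 4), (nat_lit 7), (nat_lit 6614517792), (nat_lit 63), (nat_lit 12), (nat_lit 5), (nat_lit 32), (nat_lit 1), (nat_lit 35),
    get (nat_lit 10) (nat_lit 0x400c0400c02010030080400c02010030080400c0201003008040140602004010060180401806018060240a), Tr.get e0_N, get (nat_lit 20) (nat_lit 0x3ff003ff003ff003ff003ff003ff003ff003ff003ff003ff003ff003ff003ff003ff003ff003ff003ff003ff003ff003ff0000e0000d0000c0000b0000a00009000080000700006000050000400003000020000100000),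
    Tr.get3 e0_F (nat_lit 18) (nat_lit 5), Tr.get3 e0_T (nat_lit 4) (nat_lit 7), Tr.get e0_P⟩

theorem e0_head : e0.headOK rels iv = true := by decide +kernel

theorem e0_b0 : allFrom (nat_lit 0) (nat_lit 1) e0.blockOK = true := by decide +kernel

def e0_Q6 : Tr := .leaf (nat_lit 0x2f3a43d7834b2c7c30182)
theorem e0_f6_0 : allFrom (nat_lit 0) (nat_lit 12) (e0.finOK (nat_lit 12) (Tr.get3 e0_Q6 (nat_lit 7) (nat_lit 7)) (nat_lit 6)) = true := by
  decide +kernel

def e0_Q5 : Tr := .leaf (nat_lit 0xb14a33a770a3894e98420)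
theorem e0_f5_0 : allFrom (nat_lit 0) (nat_lit 12) (e0.finOK (nat_lit 12) (Tr.get3 e0_Q5 (nat_lit 7) (nat_lit 7)) (nat_lit 5)) = true := by
  decide +kernel

def e0_Q4 : Tr := .leaf (nat_lit 0xa9309c0835582a24c511e)
theorem e0_f4_0 : allFrom (nat_lit 0) (nat_lit 12) (e0.finOK (nat_lit 12) (Tr.get3 e0_Q4 (nat_lit 7) (nat_lit 7)) (nat_lit 4)) = true := by
  decide +kernel

def e0_Q3 : Tr := .leaf (nat_lit 0xb76a53873799280ea431c)
theorem e0_f3_0 : allFrom (nat_lit 0) (nat_lit 12) (e0.finOK (nat_lit 12) (Tr.get3 e0_Q3 (nat_lit 7) (nat_lit 7)) (nat_lit 3)) = true := by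
  decide +kernel

def e0_Q2 : Tr := .leaf (nat_lit 0xb9428916d81737201421a)
theorem e0_f2_0 : allFrom (nat_lit 0) (nat_lit 12) (e0.finOK (nat_lit 12) (Tr.get3 e0_Q2 (nat_lit 7) (nat_lit 7)) (nat_lit 2)) = true := by
  decide +kernel

def e0_Q1 : Tr := .leaf (nat_lit 0xac562451ed05941c29218)
theorem e0_f1_0 : allFrom (nat_lit 0) (nat_lit 12) (e0.finOK (nat_lit 12) (Tr.get3 e0_Q1 (nat_lit 7) (nat_lit 7)) (nat_lit 1)) = true := by
  decide +kernel

theorem e0_blocks : ∀ t < e0.k, e0.blockOK t = true :=
  (of_allFrom_append of_lt_zero e0_b0)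

/-- index 12 max 12 total 12 facts 49 | needed cosets 12 facts 49 steps 152 trivial 0 -/
theorem e0_index {G : Type*} [Group G] {γ : ℕ → G} (hL : Lab γ iv) (hr : ∀ t ∈ rels, t.ev γ = 1) {K : Subgroup G}
    (hK : ∀ t ∈ ([.l 1, .l 2, .l 3, .l 4, .l 5] : List W), t.ev γ ∈ K) :
    K.relIndex (genW γ [.l 1, .l 2, .l 3, .l 4, .l 5, .l 6]) ≠ 0 ∧ K.relIndex (genW γ [.l 1, .l 2, .l 3, .l 4, .l 5, .l 6]) ≤ 12 :=
  TC.relIndex_le (D := e0) (gens := [1, 2, 3, 4, 5, 6]) hL (List.forall_mem_cons.2 ⟨hL.zero_mem K, hK⟩) hr e0_head e0_blocks (by decide) (by decide)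
   (List.forall_mem_cons.2 ⟨⟨_, (of_allFrom_append of_lt_zero e0_f1_0)⟩,
    List.forall_mem_cons.2 ⟨⟨_, (of_allFrom_append of_lt_zero e0_f2_0)⟩,
    List.forall_mem_cons.2 ⟨⟨_, (of_allFrom_append of_lt_zero e0_f3_0)⟩,
    List.forall_mem_cons.2 ⟨⟨_, (of_allFrom_append of_lt_zero e0_f4_0)⟩,
    List.forall_mem_cons.2 ⟨⟨_, (of_allFrom_append of_lt_zero e0_f5_0)⟩,
    List.forall_mem_cons.2 ⟨⟨_, (of_allFrom_append of_lt_zero e0_f6_0)⟩,
    fun _ h => absurd h List.not_mem_nil⟩⟩⟩⟩⟩⟩)

theorem tcb : TCB.{u} iv rels gens 95040 := fun _ _ _ hL hr =>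
  card_le_of_relIndex (genW_mono _ (by simp)) (e0_index hL hr fun _ => mem_genW _)
    (card_le_of_relIndex (genW_mono _ (by simp)) (e1_index hL hr fun _ => mem_genW _)
    (card_le_of_relIndex (genW_mono _ (by simp)) (e2_index hL hr fun _ => mem_genW _)
    (card_le_of_relIndex bot_le (e3_index hL hr (by simp)) card_bot_le)))

/-- The letters as permutations. -/
def cs : List ℕ := [(nat_lit 0x3d9d3a0e307d4c252d24bb4a893020), (nat_lit 0xbaab3a30e673db25d9228c0a322020), (nat_lit 0xb5e74a9a2273da83a86c5c8a44c020),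
    (nat_lit 0x3bd549ca30b2cc87542cbb4a219120), (nat_lit 0x3aea59c23273c88b292cb8a8d19820), (nat_lit 0x79eb3a4a20bad28729acb04a4188d0)]
/-- Words for the lower bound. -/
def low : List (ℕ × List ℕ) := [((nat_lit 0), [(nat_lit 0), (nat_lit 6214), (nat_lit 195), (nat_lit 6305), (nat_lit 6244), (nat_lit 194), (nat_lit 6242), (nat_lit 198694),
    (nat_lit 6241), (nat_lit 6209), (nat_lit 6), (nat_lit 197)]),
    ((nat_lit 5), [(nat_lit 0), (nat_lit 0xa118483), (nat_lit 164964), (nat_lit 0x508c24), (nat_lit 164961), (nat_lit 0x508c22), (nat_lit 0x142309062), (nat_lit 161),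
    (nat_lit 5), (nat_lit 5155), (nat_lit 0x508c82), (nat_lit 0xa119043)]),
    ((nat_lit 1), [(nat_lit 0), (nat_lit 134212), (nat_lit 131), (nat_lit 4194), (nat_lit 134179), (nat_lit 134209), (nat_lit 4), (nat_lit 134178),
    (nat_lit 0x418461), (nat_lit 0x418462), (nat_lit 4193)]),
    ((nat_lit 2), [(nat_lit 0), (nat_lit 1089), (nat_lit 65), (nat_lit 98), (nat_lit 2), (nat_lit 34851), (nat_lit 1), (nat_lit 3137),
    (nat_lit 3), (nat_lit 34)]),
    ((nat_lit 3), [(nat_lit 0), (nat_lit 2145), (nat_lit 1122)]),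
    ((nat_lit 4), [(nat_lit 0), (nat_lit 3107)])]

theorem pr : ∃ γ : ℕ → m12, Pr γ iv rels :=
  let ⟨_, M⟩ := pm_of_reps (cs := cs) inj_pt (faithful_M24.subgroup _) (reps mem12 (by decide +kernel))
  ⟨_, M.pr (l := low) card_m12 tcb (by decide +kernel)⟩

/-- The engine. -/
noncomputable def cE : ME := meP ⟨5, 16, 12, 205, 10⟩
/-- A letter. -/
def cc1 : ℕ := (nat_lit 0x100000000000000000000000000000000000000000000000000000000000000000000000000010000000000000000000000000000000100000000000000000000000000000000000000000001000000000000000000000000000000000000000000000000000000000000000000000001000000000000000000000000000000000001000000000000000000000000000000000000000000000000000000000000000100000000000000010000000000000000000000000000000000000000000000000000000000010000000000000000000000000000000000000000000000000000000100000000000000000000000000000000000000000000000000000000000000010000000000000000000000000000000000000000000000000001)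
/-- A letter. -/
def cc2 : ℕ := (nat_lit 0x100000000000000000000000000000000000000000000000000000004000000000000000000000000000000000000000000040000000000000000000000000000000000000000000000000000000000000000000000000001000000000000000000000000000000000000000000040000000000000000000000000000000000000001000000000000000000000000000000000000000000000000000100000000000000000000000000000000000000040000000000000000000000000000000000000000000100000000000000000000000000000000000000000000000000000000000000000000000000010000000000000000000000000000000000000000000100000000000000000000000000000000000000000000000000000001)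
/-- A letter. -/
def cc3 : ℕ := (nat_lit 0x40000000000000000000000000000000000000000000400000000000000000000000000000000000000000000000000000001000000000000000000000000000000000000000000000000000000010000000000000000000000000000000000000000000100000000000000000000000000000000000000000000000000000001000000000000000000000000000000000000000000000000000100000000000000000000000000000000000000000000000000000000000400000000000000000000000000000000000000000000000000010000000000000000000000000000000000040000000000000000000000000000000000000000000000000001000000000000000000000000000000000000000000000000000000000001)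
/-- A letter. -/
def cc4 : ℕ := (nat_lit 0x1000000000000000000000000000000010000000000000000000000000000000000000000000000000000000000000000000000000001000000000000000000000000000000010000000000000000000000000000000000000000000100000000000000000000000000000000000100000000000000000000000000000000000000000000000000000000000000000000000000000000000100000000000000000000000000000000000000010000000000000000000000000001000000000000000000000000000000000000000000000000000000000000000100000000000000000000000000000000000000000000000000000000000000010000000000000000000000000000000000000000000000000001)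
/-- A letter. -/
def cc5 : ℕ := (nat_lit 0x100000000000000000000000000000000000000000000000000010000000000000000000000000000000000000000000000000000000000000000000400000000000000000000000000000000000000010000000000000000000000000000000000000000000100000000000000000000000000000000000000000000000000000001000000000000000000000000000000000004000000000000000000000000000000000000000000000000000000000000000000000000000000010000000000000000000000000000000000000000000400000000000000000000000000000000000000000004000000000000000000000000000000000000000000010000000000000000000000000000000000000000000000000000000000000001)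
/-- A letter. -/
def cc6 : ℕ := (nat_lit 0x100000000000000000000000000010000000000000000000000000000000000000000000000000001000000000000000000000000000000000000000000000000000000010000000000000000000000000000000000000000000100000000000000000000000000000000000000000000000000000000000000000000000100000000000100000000000000000000000000000000000000000000000000000000000000000000000000010000000000000000000000000000000000000000000000000001000000000000000000000000000000000001000000000000000000000000000000000000000000000000000000000000000000000001000000000000000000000000000000000000000000010000)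
/-- The letters. -/
def ccs : List ℕ := [cc1, cc2, cc3, cc4, cc5, cc6]
/-- The values of the relators. -/
noncomputable def czs : List ℕ := [(Nat.mul (nat_lit 1) cE.s0),
    (Nat.mul (nat_lit 4) cE.s0)]

theorem c1 : cE.letOK iv ccs czs = true := by decide +kernel
theorem c2 : cE.relsOK iv ccs czs rels = true := by decide +kernel

theorem clb {γ : ℕ → m12} (P : Pr γ iv rels) : Lb m12 (Multiplicative (ZMod 2)) :=
  P.cyc (meP_ok (by decide +kernel)) c1 c2 (t := .mul (.mul (.mul (.mul (.mul (.mul (.mul (.l 3) (.l 5)) (.l 6)) (.l 2)) (.l 5)) (.l 3)) (.l 6)) (.l 2))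
    (x := (Nat.mul (nat_lit 4) cE.s0)) (by decide +kernel)

end Cfsg.Lib.Mult.M12
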