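import Cfsg.Agent.Lib.Calc.CosetFin
import Cfsg.Agent.Lib.Calc.Pres
import Cfsg.Agent.Lib.Big.Word

/-!
# Coset enumerations with relators that are only known to be central
-/

set_option autoImplicit false

namespace Cfsg.Lib.Mult

open Cfsg.Lib.Calc Cfsg.Lib.Big Subgroup

universe u

/-- The words `K` are trivial, the words `R` central and the words `S` in `U`; then the words `L` are in `U`. -/
def Twist (K R S L : List W) : Prop :=
  ∀ (E : Type u) [Group E] (ε : ℕ → E) (U : Subgroup E), (∀ t ∈ K, t.ev ε = 1) → (∀ t ∈ R, t.ev ε ∈ center E) →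
    (∀ t ∈ S, t.ev ε ∈ U) → ∀ t ∈ L, t.ev ε ∈ U

/-- The commutators of the words `R` with eight letters and with each other. -/
def cenW (R : List W) : List W := R.flatMap fun r => ((List.range 8).map W.l ++ R).map fun x =>
  .mul (.mul (.mul (.inv r) (.inv x)) r) x

/-- Letters and their inverses. -/
def twoL (c : ℕ) : ℕ := [1, 3, 5, 7, 9, 11, 13, 15].getD c 0

/-- The table of inverses. -/
def twoI : ℕ := 0xf835cb62547414c320440

/-- The checks for the subgroup and the loops. -/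
noncomputable def loopsOK (D : TC) (S L : List W) (P : List (ℕ × ℕ × ℕ)) : Bool :=
  (D.subs.all fun t => t.isIn (.l 0 :: S.map (renW twoL))) && (L.all (ltW 8) && S.all (ltW 8)) && L.length == P.length &&
    (L.zip P).all fun x => D.loopOK x.2.1 x.2.2.1 x.2.2.2 && leq (red (get 5 twoI) (expand D.labs (get 5 twoI)
      (digs 5 x.2.1 x.2.2.1))) (red (get 5 twoI) ((renW twoL x.1).toList (get 5 twoI)))

theorem Twist.of {D : TC} {K R S L : List W} {P : List (ℕ × ℕ × ℕ)}
    (h1 : ((K ++ cenW R).all (ltW 8) && D.headOK ((K ++ cenW R).map (renW twoL)) twoI) = true)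
    (h2 : ∀ t < D.k, D.blockOK t = true) (h3 : loopsOK D S L P = true) : Twist.{u} K R S L := by
  intro E _ ε U hK hR hS t ht
  simp only [loopsOK, Bool.and_eq_true, List.all_eq_true, beq_iff_eq] at h1 h3
  obtain ⟨⟨⟨a1, a2, a3⟩, a4⟩, a5⟩ := h3
  let γ : ℕ → E := fun c => (1 :: [ε 0, (ε 0)⁻¹, ε 1, (ε 1)⁻¹, ε 2, (ε 2)⁻¹, ε 3, (ε 3)⁻¹, ε 4, (ε 4)⁻¹, ε 5, (ε 5)⁻¹,
    ε 6, (ε 6)⁻¹, ε 7, (ε 7)⁻¹]).getD c 1
  have hL : Lab γ twoI := Lab.of_list (show twoI < 2 ^ (5 * 17) by decide +kernel) fun c hc => by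
    change c < 17 at hc
    interval_cases c <;> first | exact mul_one _ | exact inv_mul_cancel _ | exact mul_inv_cancel _
  have e : ∀ t, ltW 8 t = true → (renW twoL t).ev γ = t.ev ε := fun t ht =>
    (ev_renW _ _ t).trans (ev_congr (fun c hc => by interval_cases c <;> rfl) ht)
  obtain ⟨i, hi, rfl⟩ := List.getElem_of_mem ht
  have a6 := a5 (L[i], P[i]) (List.mem_iff_getElem.2 ⟨i, by simp; omega, by simp⟩)
  rw [← e _ (a2 _ ht)]
  refine TC.mem hL (fun t ht => ?_) (List.forall_mem_map.2 fun t ht => (e t (h1.1 t ht)).trans ?_) h1.2 h2 a6.1 a6.2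
  · rcases List.mem_cons.1 (W.mem_of_isIn (a1 t ht)) with rfl | h
    · exact hL.zero_mem U
    · obtain ⟨s, hs, rfl⟩ := List.mem_map.1 h
      exact e s (a3 s hs) ▸ hS s hs
  · rcases List.mem_append.1 ht with h | h
    · exact hK t h
    · simp only [cenW, List.mem_flatMap, List.mem_map] at h
      obtain ⟨r, hr, x, -, rfl⟩ := h
      simp only [W.ev, mul_assoc, ← mem_center_iff.1 (hR r hr), inv_mul_cancel_left, inv_mul_cancel]

/-- The exponent sum of a letter. -/
def exW (c : ℕ) : W → ℤ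
  | .l i => if i = c then 1 else 0
  | .mul a b => exW c a + exW c b
  | .pow a n => exW c a * n
  | .inv a => -exW c a

variable {E G : Type*} [Group E] [Group G] {σ : E →* G} {δ : ℕ → G}

theorem ev_update (ε : ℕ → E) (c : ℕ) {z : E} (hz : z ∈ center E) (t : W) :
    t.ev (fun i => if i = c then ε i * z else ε i) = t.ev ε * z ^ exW c t := by
  have k : ∀ (x : E) (n : ℤ), Commute x (z ^ n) := fun x n => mem_center_iff.1 (zpow_mem hz n) x
  induction t with
  | l i => simp only [W.ev, exW]; split_ifs <;> simp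
  | mul a b ha hb => rw [W.ev, ha, hb, (k _ _).symm.mul_mul_mul_comm, ← zpow_add]; rfl
  | pow a n ha => rw [W.ev, ha, (k _ _).mul_pow, ← zpow_natCast (z ^ _), ← zpow_mul]; rfl
  | inv a ha => rw [W.ev, ha, (k _ _).mul_inv, ← zpow_neg]; rfl

/-- Lifts of the letters that satisfy a triangular system of relators. -/
theorem exists_lifts (hs : Function.Surjective σ) (hc : σ.ker ≤ center E) {l : List (ℕ × W)}
    (h : ∀ p ∈ l, p.2.ev δ = 1) (h1 : (∀ p ∈ l, exW p.1 p.2 = 1) ∧ l.Pairwise fun p q => exW p.1 q.2 = 0) :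
    ∃ ε : ℕ → E, (∀ c, σ (ε c) = δ c) ∧ ∀ t ∈ l.map Prod.snd, t.ev ε = 1 := by
  induction l with
  | nil => exact ⟨fun c => (hs (δ c)).choose, fun c => (hs _).choose_spec, by simp⟩
  | cons p l ih =>
    rw [List.forall_mem_cons, List.pairwise_cons] at h1
    obtain ⟨ε, a, b⟩ := ih (fun q hq => h q (List.mem_cons_of_mem _ hq)) ⟨h1.1.2, h1.2.2⟩
    have k : (p.2.ev ε)⁻¹ ∈ σ.ker := inv_mem (by
      rw [MonoidHom.mem_ker, W.map_ev, funext a, h p List.mem_cons_self])
    refine ⟨fun i => if i = p.1 then ε i * (p.2.ev ε)⁻¹ else ε i, fun c => ?_, ?_⟩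
    · beta_reduce
      split_ifs
      · rw [map_mul, k, mul_one, a]
      · exact a c
    · simp only [List.map_cons, List.forall_mem_cons, List.forall_mem_map, ev_update ε _ (hc k), h1.1.1, zpow_one,
        mul_inv_cancel, true_and] at b ⊢
      exact fun q hq => by rw [b q hq, h1.2.1 q hq, zpow_zero, mul_one]

/-- The words found in a subgroup that meets the kernel trivially are trivial. -/
theorem Twist.step {E : Type u} [Group E] {σ : E →* G} {ε : ℕ → E} (hc : σ.ker ≤ center E) (a : ∀ c, σ (ε c) = δ c)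
    {rels K R S L l : List W} (T : Twist.{u} K R S L) (hr : ∀ t ∈ rels, t.ev δ = 1) (hl : ∀ t ∈ l, t.ev ε = 1)
    {U : Subgroup E} (hU : U ⊓ σ.ker = ⊥) (hS : ∀ t ∈ S, t.ev ε ∈ U)
    (h : ((K.all fun t => t.isIn l) && R.all fun t => t.isIn rels) = true := by decide +kernel) :
    (∀ t ∈ L, t.ev ε ∈ U) ∧ ∀ t ∈ (L.filter fun t => t.isIn rels) ++ l, t.ev ε = 1 := by
  have k : ∀ t : W, t.isIn rels = true → t.ev ε ∈ σ.ker := fun t ht => by
    rw [MonoidHom.mem_ker, W.map_ev, funext a, hr t (W.mem_of_isIn ht)]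
  rw [Bool.and_eq_true] at h
  have m := T E ε U (rels_of_isIn hl h.1) (fun t ht => hc (k t (List.all_eq_true.1 h.2 t ht))) hS
  exact ⟨m, List.forall_mem_append.2 ⟨fun t ht => mem_bot.1 (hU.le
    ⟨m t (List.mem_filter.1 ht).1, k t (List.mem_filter.1 ht).2⟩), hl⟩⟩

end Cfsg.Lib.Mult
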